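import Cfsg.Agent.BG.B11

/-! Fixed-point-free operator groups: definitions and the conjugacy lemma -/

namespace CF.Fpf
open Subgroup CF.BG
open scoped commutatorElement Pointwise

universe u
variable {Γ : Type*} [Group Γ] {Γ' : Type*} [Group Γ']

/-- `A` normalizes `G`, fixes only `1`, and has a normal `p`-complement for all `p ∣ |G|` -/
structure Fp (G A : Subgroup Γ) : Prop where
  norm : A ≤ 𝐍 G
  fpf : G ⊓ 𝐂 A = ⊥
  npc : ∀ p : ℕ, p.Prime → p ∣ ♯G → NPC p A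

/-- the conjugacy property -/
def FPP (C A : Subgroup Γ) : Prop :=
  ∀ D : Subgroup Γ, (∀ a ∈ A, ∃ c ∈ C, c * a ∈ D) → ∃ c ∈ C, cj c A ≤ D

variable [Finite Γ] {G A H C D K N V P : Subgroup Γ} {π : Set ℕ} {p : ℕ}

omit [Finite Γ] in
theorem Fp.mono (h : Fp G A) (hH : H ≤ G) (n : A ≤ 𝐍 H) : Fp H A :=
  ⟨n, eq_bot_mono h.fpf (inf_le_inf_right _ hH), fun p hp hd => h.npc p hp (hd.trans (card_dvd hH))⟩

omit [Finite Γ] in
theorem Fp.eq_one (h : Fp G A) {x : Γ} (hx : x ∈ G) (c : ∀ a ∈ A, a * x = x * a) : x = 1 :=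
  eq_one_of_mem_bot h.fpf ⟨hx, mem_cent.mpr c⟩

omit [Finite Γ] in
theorem Fp.eq_one' (h : Fp G A) {x : Γ} (hx : x ∈ G) (c : ∀ a ∈ A, a * x * a⁻¹ = x) : x = 1 :=
  h.eq_one hx fun a ha => by have := c a ha; rw [mul_inv_eq_iff_eq_mul] at this; exact this

theorem fp_of_nil (n : A ≤ 𝐍 G) (f : G ⊓ 𝐂 A = ⊥) (h : Nil A) : Fp G A :=
  ⟨n, f, fun p _ _ => h.npc p⟩

theorem fp_of_coprime (n : A ≤ 𝐍 G) (f : G ⊓ 𝐂 A = ⊥) (h : (♯A).Coprime (♯G)) : Fp G A :=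
  ⟨n, f, fun _ hp hd => npc_of_pi' ((piNat_compl_single hp).mpr
    fun k => not_dvd_of_coprime h hp k hd)⟩

theorem npc_map [Finite Γ'] (h : NPC p A) (f : Γ →* Γ') : NPC p (A.map f) := by
  refine npc_of_normal (N := (𝐎 {p}ᶜ A).map f) ((O_normal _ A).map f) ((O_pi _ A).map f) ?_
  have := (h.map f).idx
  rwa [compl_compl] at this

theorem npc_map_iff [Finite Γ'] {f : Γ →* Γ'} (hf : Function.Injective f) :
    NPC p (A.map f) ↔ NPC p A := by
  rw [NPC, ← map_O _ _ hf, hall_map_iff hf]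

theorem fp_map_iff [Finite Γ'] {f : Γ →* Γ'} (hf : Function.Injective f) :
    Fp (G.map f) (A.map f) ↔ Fp G A := by
  constructor
  · intro h
    refine ⟨(map_norm_iff hf).mp h.norm, ?_, fun p hp hd => (npc_map_iff hf).mp
      (h.npc p hp (by rwa [card_map hf]))⟩
    have := h.fpf
    rwa [← map_inf_cent hf, map_eq_bot_iff_of_injective _ hf] at this
  · intro h
    refine ⟨map_norm h.norm f, by rw [← map_inf_cent hf, h.fpf, Subgroup.map_bot], fun p hp hd =>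
      npc_map (h.npc p hp (by rwa [card_map hf] at hd)) f⟩

protected theorem Fp.cj (h : Fp G A) (g : Γ) : Fp (cj g G) (cj g A) := (fp_map_iff (conj_inj g)).mpr h

theorem Fp.cj_right (h : Fp G A) {g : Γ} (hg : g ∈ 𝐍 G) : Fp G (BG.cj g A) := by
  have := h.cj g
  rwa [cj_of_norm hg] at this

protected theorem Fp.subgroupOf (h : Fp G A) {L : Subgroup Γ} (hG : G ≤ L) (hA : A ≤ L) :
    Fp (G.subgroupOf L) (A.subgroupOf L) := by
  rw [← fp_map_iff L.subtype_injective, map_subgroupOf hG, map_subgroupOf hA]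
  exact h

theorem nil_of_npc (h : ∀ p : ℕ, p.Prime → p ∣ ♯N → NPC p N) : Nil N := by
  refine nil_of_forall_syl fun p hp _ => ?_
  obtain ⟨P, hP⟩ := exists_syl p N
  refine ⟨P, hP, le_norm_of_cj_le fun x hx => ?_⟩
  have hx' : Syl p (cj x P) N := by
    have := hP.cj x
    rwa [cj_of_mem hx] at this
  have k : PiGrp {p} (P ⊔ cj x P) := by
    intro q hq hd
    by_contra hne
    have hle : P ⊔ cj x P ≤ N := sup_le hP.le hx'.le
    have hn := h q hq (hd.trans (card_dvd hle))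
    have hne' : p ≠ q := fun e => hne (e ▸ rfl)
    have : P ⊔ cj x P ≤ 𝐎 {q}ᶜ N :=
      sup_le (hn.le_O hP.le (hP.pi.of_single_ne hne')) (hn.le_O hx'.le (hx'.pi.of_single_ne hne'))
    exact ((O_pi {q}ᶜ N).le this) q hq hd rfl
  have := hP.eq_of_le le_sup_left (sup_le hP.le hx'.le) k
  exact le_sup_right.trans this.ge

/-- a `p`-group normalized by `A` has no fixed points under the `p`-complement -/
theorem Fp.cent_O (h : Fp V A) (hV : PiGrp {p} V) : V ⊓ 𝐂 (𝐎 {p}ᶜ A) = ⊥ := by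
  by_contra hne
  have hV1 : V ≠ ⊥ := ne_bot_mono hne inf_le_left
  have hn := h.npc p (hV.prime hV1) (hV.dvd_card hV1)
  obtain ⟨P, hP⟩ := exists_syl p A
  have h2 := hP.pi.inf_cent_ne_bot (hV.inf_left (K := 𝐂 (𝐎 {p}ᶜ A)))
    (norm_inf_cent (hP.le.trans h.norm) (hP.le.trans (O_normal _ A).norm)) hne
  refine h2 (eq_bot_mono h.fpf (le_inf (inf_le_left.trans inf_le_left) ?_))
  have := le_cent_sup (A := V ⊓ 𝐂 (𝐎 {p}ᶜ A) ⊓ 𝐂 P) (inf_le_left.trans inf_le_right) inf_le_right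
  rwa [(hn.sdprod hP).sup] at this

theorem Fp.inf_eq_bot (h : Fp G A) : G ⊓ A = ⊥ := by
  by_contra hne
  have hn : Nil (G ⊓ A) := nil_of_npc fun p hp hd =>
    (h.npc p hp (hd.trans (card_dvd inf_le_left))).mono inf_le_right
  obtain ⟨p, hp, hO⟩ := hn.sol.exists_O_ne_bot hne
  have hN : G ⊓ A ⊴ A := normalIn_inf_right h.norm
  have h2 := (h.mono ((O_le {p} _).trans inf_le_left) (hN.O {p}).norm).cent_O (O_pi _ _)
  apply hO
  rw [← h2]
  exact (inf_eq_left.mpr (cent_symm (O_compl_cent_normal (hN.O {p}) (O_pi _ _)))).symm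

theorem Fp.norm_eq_bot (h : Fp G A) : G ⊓ 𝐍 A = ⊥ := by
  rw [inf_norm_eq_inf_cent h.norm (inf_comm G A ▸ h.inf_eq_bot), h.fpf]

theorem Fp.eq_one_of_norm (h : Fp G A) {x : Γ} (hx : x ∈ G) (n : x ∈ 𝐍 A) : x = 1 :=
  eq_one_of_mem_bot h.norm_eq_bot ⟨hx, n⟩

theorem Fp.fpp_of_pi (h : Fp V A) (hV : PiGrp {p} V) : FPP V A := by
  have key : ∀ A D : Subgroup Γ, Fp V A → 𝐎 {p}ᶜ A ≤ D → (∀ a ∈ A, ∃ c ∈ V, c * a ∈ D) →
      A ≤ D := by
    intro A D h hK hD a ha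
    obtain ⟨c, hc, hd⟩ := hD a ha
    set K := 𝐎 {p}ᶜ A with hKdef
    have hKV : K ≤ 𝐍 V := (O_le _ A).trans h.norm
    have haK : a ∈ 𝐍 K := (O_normal _ A).norm ha
    have h1 : cj (c * a) K ≤ (D ⊓ V) ⊔ K := by
      have e : cj (c * a) K ≤ D ⊓ (V ⊔ K) := by
        refine le_inf (cj_le_of_mem hd hK) ?_
        rw [← cj_cj, cj_of_norm haK]
        exact cj_le_of_mem (mem_sup_left hc) le_sup_right
      rwa [inf_sup_right hK (Or.inr hKV)] at e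
    obtain ⟨w, hw, hw2⟩ := exists_cj_le_of_le_sup (norm_inf (norm_of_le hK) hKV) h1
      (by rw [card_cj]; exact PiNat.coprime' (O_pi _ A) (hV.inf_right))
      (Or.inr (hV.inf_right (H := D)).sol)
    rw [cj_cj] at hw2
    have h3 : w * c ∈ 𝐍 K := by
      have := mul_mem (mem_norm_of_cj_le hw2) (inv_mem haK)
      simpa [mul_assoc] using this
    have h4 : w * c = 1 := by
      refine eq_one_of_mem_bot (h.cent_O hV) ⟨mul_mem hw.2 hc, ?_⟩
      exact inf_norm_le_cent hKV ((O_pi _ A).inf_eq_bot' hV) ⟨mul_mem hw.2 hc, h3⟩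
    have h5 : a = w * (c * a) := by rw [← mul_assoc, h4, one_mul]
    rw [h5]; exact mul_mem hw.1 hd
  intro D hD
  set D' := D ⊓ (V ⊔ A)
  have hD' : ∀ a ∈ A, ∃ c ∈ V, c * a ∈ D' := fun a ha => by
    obtain ⟨c, hc, hd⟩ := hD a ha
    exact ⟨c, hc, hd, mul_mem (mem_sup_left hc) (mem_sup_right ha)⟩
  have hDV : D' ≤ 𝐍 V := inf_le_right.trans (sup_le (le_norm_self V) h.norm)
  have hK : 𝐎 {p}ᶜ A ≤ V ⊔ D' := fun a ha => by
    obtain ⟨c, hc, hd⟩ := hD' a (O_le _ A ha)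
    have : a = c⁻¹ * (c * a) := by simp
    rw [this]; exact mul_mem (mem_sup_left (inv_mem hc)) (mem_sup_right hd)
  obtain ⟨v, hv, hv2⟩ := exists_cj_le_of_le_sup hDV hK (PiNat.coprime' (O_pi _ A) hV)
    (Or.inr hV.sol)
  refine ⟨v, hv, (key (BG.cj v A) D' (h.cj_right (le_norm_self V hv))
    (by rw [← cj_O]; exact hv2) ?_).trans inf_le_left⟩
  rintro _ ⟨a, ha, rfl⟩
  obtain ⟨c, hc, hd⟩ := hD' a ha
  refine ⟨c * (a * v * a⁻¹) * v⁻¹, mul_mem (mul_mem hc (conj_mem_of_norm (h.norm ha) hv))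
    (inv_mem hv), ?_⟩
  have : c * (a * v * a⁻¹) * v⁻¹ * (MulAut.conj v).toMonoidHom a = c * a := by
    simp [mul_assoc]
  rw [this]; exact hd

/-- covering of fixed cosets -/
theorem Fp.cover_of (h : Fp G A) (hN : N ≤ G) (f : FPP N A) {x : Γ} (hx : x ∈ G)
    (c : ∀ a ∈ A, x * a * x⁻¹ * a⁻¹ ∈ N) : x ∈ N := by
  obtain ⟨v, hv, hv2⟩ := f (BG.cj x A) fun a ha =>
    ⟨_, c a ha, by rw [inv_mul_cancel_right]; exact conj_mem_cj.mpr ha⟩
  rw [le_cj_iff, cj_cj] at hv2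
  have := h.eq_one_of_norm (mul_mem (inv_mem hx) (hN hv)) (mem_norm_of_cj_le hv2)
  rw [inv_mul_eq_one] at this
  exact this ▸ hv

theorem Fp.map_of [Finite Γ'] (h : Fp G A) (φ : Γ →* Γ') (f : FPP (G ⊓ φ.ker) A) :
    Fp (G.map φ) (A.map φ) := by
  refine ⟨map_norm h.norm φ, eq_bot_of_forall ?_, fun p hp hd =>
    npc_map (h.npc p hp (hd.trans (card_map_dvd G φ))) φ⟩
  rintro _ ⟨⟨x, hx, rfl⟩, hc⟩
  refine (h.cover_of inf_le_left f hx fun a ha => ⟨?_, ?_⟩).2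
  · have := mul_mem hx (conj_mem_of_norm (h.norm ha) (inv_mem hx))
    simpa [mul_assoc] using this
  · have := mem_cent.mp hc (φ a) (mem_map_of_mem φ ha)
    simp [MonoidHom.mem_ker, ← this]

theorem fpp_subgroupOf {L : Subgroup Γ} (hC : C ≤ L) (hA : A ≤ L) (f : FPP C A) :
    FPP (C.subgroupOf L) (A.subgroupOf L) := by
  intro D hD
  obtain ⟨c, hc, h2⟩ := f (D.map L.subtype) fun a ha => by
    obtain ⟨c, hc, hd⟩ := hD ⟨a, hA ha⟩ ha
    exact ⟨c, hc, mem_map_of_mem L.subtype hd⟩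
  refine ⟨⟨c, hC hc⟩, hc, ?_⟩
  rw [← map_le_map_iff_of_injective L.subtype_injective, map_cj, map_subgroupOf hA]
  exact h2

theorem Fp.qt_of (h : Fp G A) (g : G ≤ 𝐍 N) (a : A ≤ 𝐍 N) (f : FPP (G ⊓ N) A) :
    Fp (qt N G) (qt N A) := by
  refine (h.subgroupOf g a).map_of (qmk N) ?_
  rw [qmk_ker]
  exact fpp_subgroupOf (inf_le_left.trans g) a f

theorem fpp_aux (n : ℕ) : ∀ {Γ : Type u} [Group Γ] [Finite Γ] {C A : Subgroup Γ}, ♯C < n →
    Fp C A → Sol C → FPP C A := by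
  induction n with
  | zero => intros; omega
  | succ n ih =>
    intro Γ _ _ C A hn h s D hD
    by_cases h1 : C = ⊥
    · subst h1
      refine ⟨1, one_mem _, ?_⟩
      rw [cj_one]
      intro a ha
      obtain ⟨c, hc, hd⟩ := hD a ha
      rwa [mem_bot.mp hc, one_mul] at hd
    obtain ⟨p, V, -, hV1, hVC, hAV, hV⟩ := s.exists_abelem_norm h1 h.norm
    have hq : Fp (qt V C) (qt V A) := h.qt_of hVC.norm hAV (by
      rw [inf_eq_right.mpr hVC.le]; exact (h.mono hVC.le hAV).fpp_of_pi hV.pi)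
    set D' := D ⊓ (C ⊔ A)
    have hDV : D' ≤ 𝐍 V := inf_le_right.trans (sup_le hVC.norm hAV)
    obtain ⟨z, hz, hz2⟩ := ih (by have := card_qt_lt hVC hV1; omega) hq (s.qt V) (qt V D') (by
      intro z hz
      obtain ⟨a, ha, han, rfl⟩ := mem_qt.mp hz
      obtain ⟨c, hc, hd⟩ := hD a ha
      refine ⟨qe V c, qe_mem_qt hc (hVC.norm hc), ?_⟩
      rw [← qe_mul (hVC.norm hc) han]
      exact qe_mem_qt ⟨hd, mul_mem (mem_sup_left hc) (mem_sup_right ha)⟩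
        (mul_mem (hVC.norm hc) han))
    obtain ⟨c, hc, hcn, rfl⟩ := mem_qt.mp hz
    have hA' : cj c A ≤ 𝐍 V := by
      have := cj_mono c hAV
      rwa [cj_norm, cj_of_norm hcn] at this
    rw [← qt_cj hcn, qt_le_qt_iff hA' hDV] at hz2
    obtain ⟨v, hv, hv2⟩ := ((h.mono hVC.le hAV).cj_right hcn).fpp_of_pi hV.pi D' (by
      intro a ha
      obtain ⟨w, hw, d, hd, rfl⟩ := (mem_sup_norm' hDV).mp (hz2 ha)
      exact ⟨w⁻¹, inv_mem hw, by simpa using hd⟩)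
    rw [cj_cj] at hv2
    exact ⟨v * c, mul_mem (hVC.le hv) hc, hv2.trans inf_le_left⟩

/-- the conjugacy lemma -/
theorem Fp.fpp (h : Fp C A) (s : Sol C) : FPP C A := fpp_aux _ (Nat.lt_succ_self _) h s

theorem Fp.conj_le (h : Fp G A) (hC : C ≤ G) (n : A ≤ 𝐍 C) (s : Sol C)
    (hD : ∀ a ∈ A, ∃ c ∈ C, c * a ∈ D) : ∃ c ∈ C, BG.cj c A ≤ D := (h.mono hC n).fpp s D hD

theorem Fp.conj_le_sup (h : Fp G A) (hC : C ≤ G) (n : A ≤ 𝐍 C) (s : Sol C) (d : D ≤ 𝐍 C)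
    (hD : A ≤ C ⊔ D) : ∃ c ∈ C, BG.cj c A ≤ D :=
  h.conj_le hC n s fun a ha => by
    obtain ⟨w, hw, d, hd, rfl⟩ := (mem_sup_norm' d).mp (hD ha)
    exact ⟨w⁻¹, inv_mem hw, by simpa using hd⟩

theorem Fp.cover (h : Fp G A) (hN : N ≤ G) (n : A ≤ 𝐍 N) (s : Sol N) {x : Γ} (hx : x ∈ G)
    (c : ∀ a ∈ A, x * a * x⁻¹ * a⁻¹ ∈ N) : x ∈ N :=
  h.cover_of hN ((h.mono hN n).fpp s) hx c

theorem Fp.cover' (h : Fp G A) (hN : N ≤ G) (n : A ≤ 𝐍 N) (s : Sol N) {x : Γ} (hx : x ∈ G)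
    (c : ∀ a ∈ A, x⁻¹ * (a * x * a⁻¹) ∈ N) : x ∈ N := by
  refine (inv_mem_iff (x := x)).mp (h.cover hN n s (inv_mem hx) fun a ha => ?_)
  simpa [mul_assoc] using c a ha

protected theorem Fp.map [Finite Γ'] (h : Fp G A) (φ : Γ →* Γ') (s : Sol (G ⊓ φ.ker)) :
    Fp (G.map φ) (A.map φ) :=
  h.map_of φ ((h.mono inf_le_left (norm_inf h.norm le_normalizer_of_normal)).fpp s)

protected theorem Fp.qt (h : Fp G A) (g : G ≤ 𝐍 N) (a : A ≤ 𝐍 N) (s : Sol (G ⊓ N)) :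
    Fp (qt N G) (qt N A) :=
  h.qt_of g a ((h.mono inf_le_left (norm_inf h.norm a)).fpp s)

/-- a `C`-class of subgroups that is `A`-invariant contains an `A`-invariant member -/
theorem Fp.fix (h : Fp C A) (s : Sol C) (hP : ∀ a ∈ A, ∃ c ∈ C, BG.cj a P = BG.cj c P) :
    ∃ c ∈ C, A ≤ 𝐍 (BG.cj c P) := by
  obtain ⟨c, hc, h2⟩ := h.fpp s (𝐍 P) fun a ha => by
    obtain ⟨c, hc, e⟩ := hP a ha
    refine ⟨c⁻¹, inv_mem hc, cj_eq_self.mp ?_⟩
    rw [← cj_cj, e, cj_cj, inv_mul_cancel, cj_one]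
  refine ⟨c⁻¹, inv_mem hc, ?_⟩
  rw [← cj_norm, ← cj_le_iff]
  exact h2

/-- no `A`-invariant class of nonidentity elements on which a solvable invariant subgroup is
transitive -/
theorem Fp.fix_elt (h : Fp G A) (hC : C ≤ G) (n : A ≤ 𝐍 C) (s : Sol C) {x : Γ} (hx : x ∈ G)
    (hP : ∀ a ∈ A, ∃ c ∈ C, a * x * a⁻¹ = c * x * c⁻¹) : x = 1 := by
  obtain ⟨c, hc, h2⟩ := h.conj_le (D := 𝐂₁ x) hC n s fun a ha => by
    obtain ⟨c, hc, e⟩ := hP a ha
    refine ⟨c⁻¹, inv_mem hc, mem_cent1.mpr ?_⟩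
    calc c⁻¹ * a * x = c⁻¹ * (a * x * a⁻¹) * a := by group
      _ = x * (c⁻¹ * a) := by rw [e]; group
  exact (h.cj_right (le_norm_self G (hC hc))).eq_one hx fun a ha => mem_cent1.mp (h2 ha)

/-- two conjugate invariant subgroups with solvable normalizer coincide -/
theorem Fp.mem_norm_of_cj (h : Fp G A) (n : A ≤ 𝐍 P) (s : Sol (G ⊓ 𝐍 P)) {g : Γ} (hg : g ∈ G)
    (n' : A ≤ 𝐍 (BG.cj g P)) : g ∈ 𝐍 P := by
  refine (h.cover' inf_le_left (norm_inf h.norm (n.trans (norm_le_norm_norm P))) s hg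
    fun a ha => mem_inf.mpr ⟨mul_mem (inv_mem hg) (conj_mem_of_norm (h.norm ha) hg), ?_⟩).2
  have h1 := n' ha
  rw [← cj_norm, mem_cj] at h1
  have : g⁻¹ * a * g * a⁻¹ ∈ 𝐍 P := mul_mem h1 (inv_mem (n ha))
  simpa [mul_assoc] using this

theorem Fp.exists_hall (h : Fp G A) (s : Sol G) (π : Set ℕ) : ∃ H, Hall π H G ∧ A ≤ 𝐍 H := by
  obtain ⟨H, hH⟩ := s.exists_hall π
  obtain ⟨c, hc, h2⟩ := h.fix s (P := H) fun a ha => by
    have := hH.cj a
    rw [cj_of_norm (h.norm ha)] at this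
    exact hH.conj s this
  refine ⟨_, ?_, h2⟩
  have := hH.cj c
  rwa [cj_of_mem hc] at this

theorem Fp.hall_unique (h : Fp G A) (s : Sol G) (a : Hall π H G) (b : Hall π K G)
    (n : A ≤ 𝐍 H) (m : A ≤ 𝐍 K) : H = K := by
  obtain ⟨g, hg, rfl⟩ := a.conj s b
  exact (cj_of_norm (h.mem_norm_of_cj n (s.mono inf_le_left) hg m)).symm

/-- an invariant `p`-subgroup lies in an invariant Sylow subgroup, provided the normalizers of
larger invariant `p`-subgroups are solvable -/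
theorem Fp.exists_syl_le' (h : Fp G A) (hP : P ≤ G) (k : PiGrp {p} P) (n : A ≤ 𝐍 P)
    (s : ∀ Q, P ≤ Q → Q ≤ G → PiGrp {p} Q → A ≤ 𝐍 Q → Sol (G ⊓ 𝐍 Q)) :
    ∃ S, Syl p S G ∧ A ≤ 𝐍 S ∧ P ≤ S := by
  obtain ⟨S, hPS, ⟨h1, h2, h3⟩, hm⟩ :=
    exists_maximal (P := fun Q => Q ≤ G ∧ PiGrp {p} Q ∧ A ≤ 𝐍 Q) ⟨hP, k, n⟩
  refine ⟨S, syl_of_syl_norm h1 ?_, h3, hPS⟩
  obtain ⟨R, hR, hRn⟩ := (h.mono inf_le_left
    (norm_inf h.norm (h3.trans (norm_le_norm_norm S)))).exists_hall (s S hPS h1 h2 h3) {p}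
  have := hm R ⟨hR.le.trans inf_le_left, hR.pi, hRn⟩
    (hR.le_of_normal ⟨le_inf h1 (le_norm_self S), inf_le_right⟩ h2)
  exact this ▸ hR

theorem Fp.exists_syl_le (h : Fp G A) (s : Sol G) (hP : P ≤ G) (k : PiGrp {p} P) (n : A ≤ 𝐍 P) :
    ∃ S, Syl p S G ∧ A ≤ 𝐍 S ∧ P ≤ S :=
  h.exists_syl_le' hP k n fun _ _ _ _ _ => s.mono inf_le_left

theorem Fp.le_syl (h : Fp G A) (s : Sol G) {S : Subgroup Γ} (hS : Syl p S G) (m : A ≤ 𝐍 S)
    (hP : P ≤ G) (k : PiGrp {p} P) (n : A ≤ 𝐍 P) : P ≤ S := by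
  obtain ⟨R, h1, h2, h3⟩ := h.exists_syl_le s hP k n
  exact h.hall_unique s h1 hS h2 m ▸ h3

theorem hall_le_aux (π : Set ℕ) (n : ℕ) : ∀ {Γ : Type u} [Group Γ] [Finite Γ]
    {G A H K : Subgroup Γ}, ♯G < n → Fp G A → Sol G → Hall π H G → A ≤ 𝐍 H → K ≤ G → PiGrp π K →
      A ≤ 𝐍 K → K ≤ H := by
  induction n with
  | zero => intros; omega
  | succ n ih =>
    intro Γ _ _ G A H K hn h s hH nH hK k nK
    by_cases h1 : G = ⊥
    · exact (hK.trans h1.le).trans bot_le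
    obtain ⟨p, V, -, hV1, hVG, hAV, hV⟩ := s.exists_abelem_norm h1 h.norm
    have h2 := ih (by have := card_qt_lt hVG hV1; omega)
      (h.qt hVG.norm hAV (s.mono inf_le_left)) (s.qt V) (hH.qt hVG.norm) (qt_norm V nH)
      (qt_mono V hK) (k.qt V) (qt_norm V nK)
    have hHV : H ≤ 𝐍 V := hH.le.trans hVG.norm
    have hKV : K ≤ 𝐍 V := hK.trans hVG.norm
    rw [qt_le_qt_iff hKV hHV] at h2
    by_cases hp : p ∈ π
    · exact h2.trans (sup_le (hH.le_of_normal hVG (hV.pi.of_single hp)) le_rfl)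
    have hV' : PiGrp πᶜ V := hV.pi.of_single' hp
    have hle : V ⊔ K ≤ G := sup_le hVG.le hK
    have a : Hall π K (V ⊔ K) :=
      (SDProd.mk' hKV (hV'.inf_eq_bot' k)).hall_right hV' k
    have e : V ⊔ (H ⊓ (V ⊔ K)) = V ⊔ K := by
      rw [inf_comm, ← inf_sup_left le_sup_left (Or.inr hHV), inf_eq_left]
      exact sup_le le_sup_left h2
    have b : Hall π (H ⊓ (V ⊔ K)) (V ⊔ K) := by
      have := (SDProd.mk' (inf_le_left.trans hHV : H ⊓ (V ⊔ K) ≤ 𝐍 V)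
        (hV'.inf_eq_bot' hH.pi.inf_left)).hall_right hV' hH.pi.inf_left
      rwa [e] at this
    have := (h.mono hle (norm_sup hAV nK)).hall_unique (s.mono hle) a b nK
      (norm_inf nH (norm_sup hAV nK))
    exact this.le.trans inf_le_left

/-- every invariant `π`-subgroup lies in the invariant Hall `π`-subgroup -/
theorem Fp.le_hall (h : Fp G A) (s : Sol G) (hH : Hall π H G) (nH : A ≤ 𝐍 H) (hK : K ≤ G)
    (k : PiGrp π K) (nK : A ≤ 𝐍 K) : K ≤ H :=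
  hall_le_aux π _ (Nat.lt_succ_self _) h s hH nH hK k nK

/-! ### products over invariant sets -/

omit [Finite Γ] in
theorem noncommProd_conj (s : Finset Γ) (c : (s : Set Γ).Pairwise Commute) {a : Γ}
    (ha : ∀ x ∈ s, a * x * a⁻¹ ∈ s) :
    a * s.noncommProd id c * a⁻¹ = s.noncommProd id c := by
  classical
  have hinj : Function.Injective (MulAut.conj a) := (MulAut.conj a).injective
  have himg : s.image (MulAut.conj a) = s :=
    Finset.eq_of_subset_of_card_le (fun y hy => by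
      obtain ⟨x, hx, rfl⟩ := Finset.mem_image.mp hy
      exact ha x hx) (by rw [Finset.card_image_of_injective _ hinj])
  have h1 := Finset.map_noncommProd s id c (MulAut.conj a).toMonoidHom
  refine h1.trans ?_
  unfold Finset.noncommProd
  congr 1
  have : s.val.map (MulAut.conj a) = s.val := by
    conv_rhs => rw [← himg]
    rw [Finset.image_val_of_injOn hinj.injOn]
  rw [Multiset.map_id]
  exact this

omit [Finite Γ] in
theorem Fp.prod_eq_one (h : Fp G A) (s : Finset Γ) (c : (s : Set Γ).Pairwise Commute)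
    (hs : ∀ x ∈ s, x ∈ G) (ha : ∀ a ∈ A, ∀ x ∈ s, a * x * a⁻¹ ∈ s) : s.noncommProd id c = 1 :=
  h.eq_one' (noncommProd_mem G _ hs) fun a a1 => noncommProd_conj s c (ha a a1)

/-- in an invariant commuting set, each element is a product of the others -/
theorem Fp.pf0 (h : Fp G A) {s : Set Γ} (c : ∀ x ∈ s, ∀ y ∈ s, x * y = y * x)
    (hs : ∀ x ∈ s, x ∈ G) (ha : ∀ a ∈ A, ∀ x ∈ s, a * x * a⁻¹ ∈ s) {x : Γ} (hx : x ∈ s)
    {Y : Subgroup Γ} (hY : ∀ y ∈ s, y ≠ x → y ∈ Y) : x ∈ Y := by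
  classical
  have hf := Set.toFinite s
  have c' : (hf.toFinset : Set Γ).Pairwise Commute := fun x hx y hy _ =>
    c x (by simpa using hx) y (by simpa using hy)
  have h1 := h.prod_eq_one hf.toFinset c' (fun x hx => hs x (by simpa using hx))
    fun a a1 x hx => by simpa using ha a a1 x (by simpa using hx)
  rw [← Finset.mul_noncommProd_erase _ (by simpa using hx : x ∈ hf.toFinset)] at h1
  rw [id, mul_eq_one_iff_eq_inv] at h1
  rw [h1]
  refine inv_mem (noncommProd_mem Y _ fun y hy => ?_)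
  rw [Finset.mem_erase] at hy
  exact hY y (by simpa using hy.2) hy.1

end CF.Fpf
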