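import Cfsg.Agent.Fpf.S2
import Cfsg.Agent.Fpf.Defs

/-! Factorization of invariant solvable subgroups, part 1: index calculus and the minimal counterexample -/

set_option autoImplicit false

namespace CF.Fpf
open Subgroup CF.BG
open scoped commutatorElement Pointwise

universe u
variable {Γ : Type u} [Group Γ] [Finite Γ] {A B D E H K L N P Q R T U V W X Y : Subgroup Γ}
  {a b c g t x y : Γ}

theorem ri_anti (h : X ≤ Y) (V : Subgroup Γ) : Y.relIndex V ≤ X.relIndex V :=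
  relIndex_le_of_le_left h (relIndex_ne_zero' _ _)

theorem ri_mono (h : U ≤ V) (D : Subgroup Γ) : D.relIndex U ≤ D.relIndex V :=
  relIndex_le_of_le_right h (relIndex_ne_zero' _ _)

theorem ri_anti' (h : X ⊓ V ≤ Y) : Y.relIndex V ≤ X.relIndex V := by
  rw [← inf_relIndex_right X V]; exact ri_anti h V

theorem ri_le_mul (h : U ≤ V) (D : Subgroup Γ) : D.relIndex V ≤ D.relIndex U * U.relIndex V := by
  have := relIndex_inf_mul_relIndex D U V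
  rw [inf_of_le_left h] at this
  rw [this]; exact ri_anti inf_le_left V

theorem ri_sup_le (h : U ≤ 𝐍 V ∨ V ≤ 𝐍 U) (D : Subgroup Γ) :
    D.relIndex (U ⊔ V) ≤ D.relIndex U * D.relIndex V := by
  have h1 := card_sup_mul_card_inf h
  have h2 := card_sup_mul_card_inf (H := D ⊓ U) (K := D ⊓ V) (h.imp
    (fun k => norm_inf (norm_of_le inf_le_left) (inf_le_right.trans k))
    (fun k => norm_inf (norm_of_le inf_le_left) (inf_le_right.trans k)))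
  have h3 : ♯((D ⊓ U) ⊔ (D ⊓ V)) ≤ ♯(D ⊓ (U ⊔ V)) :=
    card_le (sup_le (inf_le_inf_left D le_sup_left) (inf_le_inf_left D le_sup_right))
  have h4 : ♯((D ⊓ U) ⊓ (D ⊓ V)) ≤ ♯(U ⊓ V) := card_le (inf_le_inf inf_le_right inf_le_right)
  have e1 := card_inf_mul_relIndex D U
  have e2 := card_inf_mul_relIndex D V
  have e3 := card_inf_mul_relIndex D (U ⊔ V)
  have p : 0 < ♯(D ⊓ (U ⊔ V)) * ♯(U ⊓ V) := Nat.mul_pos (card_pos' _) (card_pos' _)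
  refine Nat.le_of_mul_le_mul_left ?_ p
  calc _ = (♯(D ⊓ (U ⊔ V)) * D.relIndex (U ⊔ V)) * ♯(U ⊓ V) := by ring
    _ = (♯(D ⊓ U) * ♯(D ⊓ V)) * (D.relIndex U * D.relIndex V) := by rw [e3, h1, ← e1, ← e2]; ring
    _ ≤ _ := by rw [← h2]; exact Nat.mul_le_mul_right _ (Nat.mul_le_mul h3 h4)

theorem ri_two (k : PiGrp {2} V) (D : Subgroup Γ) : D.relIndex V ≠ 3 := fun e => by
  have := k.relIndex D 3 Nat.prime_three (by rw [e])
  simp at this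

/-- equality of indices forces equality -/
theorem le_of_ri (h : X ⊓ V ≤ Y) (e : X.relIndex V ≤ Y.relIndex V) : Y ⊓ V ≤ X := by
  have a1 := card_inf_mul_relIndex X V
  have a2 := card_inf_mul_relIndex Y V
  have l : X ⊓ V ≤ Y ⊓ V := le_inf h inf_le_right
  refine (eq_of_card_le l ?_).ge.trans inf_le_left
  refine Nat.le_of_mul_le_mul_right ?_ (relIndex_pos Y V)
  rw [a2, ← a1]; exact Nat.mul_le_mul_left _ e

/-- the two offender properties -/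
structure Wn (T W : Subgroup Γ) : Prop where
  nf : ∀ E ≤ T, Abelem 2 E → (𝐂 E).relIndex W ≤ (𝐂 W).relIndex E → E ≤ 𝐂 W
  f1 : ∀ E ≤ T, Abelem 2 E → (𝐂 E).relIndex W ≤ 2 * (𝐂 W).relIndex E → (𝐂 W).relIndex E ≤ 2

omit [Finite Γ] in
theorem Wn.cj (w : Wn T W) (g : Γ) : Wn (cj g T) (cj g W) := by
  have k : ∀ E, ∃ F, E = BG.cj g F := fun E => ⟨BG.cj g⁻¹ E, (cj_cj_inv g E).symm⟩
  refine ⟨fun E l e i => ?_, fun E l e i => ?_⟩ <;> obtain ⟨F, rfl⟩ := k E <;>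
    simp only [← cj_cent, relIndex_cj, cj_le_cj, abelem_cj] at *
  exacts [w.nf F l e i, w.f1 F l e i]

theorem wn_aux {T' W' W0 W0' : Subgroup Γ} (w : Wn T W) (w' : Wn T' W') (e : Abelem 2 W0)
    (e' : Abelem 2 W0') (h : W0 ≤ W) (h' : W0' ≤ W') (i : W0.relIndex W ≤ 2)
    (i' : W0'.relIndex W' ≤ 2) (l : W0 ≤ T') (l' : W0' ≤ T)
    (o : (𝐂 W0').relIndex W0 ≤ (𝐂 W0).relIndex W0') :
    (𝐂 W').relIndex W0 ≤ 2 ∧ (𝐂 W).relIndex W0' ≤ 2 := by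
  have a1 := ri_le_mul h (𝐂 W0')
  have a2 := ri_le_mul h' (𝐂 W0)
  have a3 := ri_anti (cent_anti h) W0'
  have b := w.f1 W0' l' e' (by nlinarith)
  refine ⟨?_, b⟩
  by_contra n
  exact n (w'.f1 W0 l e (by nlinarith))

theorem wn_two {T' W' W0 W0' : Subgroup Γ} (w : Wn T W) (w' : Wn T' W') (e : Abelem 2 W0)
    (e' : Abelem 2 W0') (h : W0 ≤ W) (h' : W0' ≤ W') (i : W0.relIndex W ≤ 2)
    (i' : W0'.relIndex W' ≤ 2) (l : W0 ≤ T') (l' : W0' ≤ T) :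
    (𝐂 W').relIndex W0 ≤ 2 ∧ (𝐂 W).relIndex W0' ≤ 2 :=
  (le_total _ _).elim (wn_aux w w' e e' h h' i i' l l')
    fun o => (wn_aux w' w e' e h' h i' i l' l o).symm

theorem mem_of_sq (o : Odd (orderOf y)) (h : y * y ∈ X) : y ∈ X := by
  obtain ⟨k, hk⟩ := o
  have : y = (y * y) ^ (k + 1) := by
    rw [← pow_two, ← pow_mul, show 2 * (k + 1) = orderOf y + 1 by omega, pow_succ,
      pow_orderOf_eq_one, one_mul]
  exact this ▸ pow_mem h _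

theorem mem_of_inv (o : Odd (orderOf y)) (i : a * y * a⁻¹ = y⁻¹) (h : a ∈ X)
    (k : y * a * y⁻¹ ∈ X) : y ∈ X := by
  refine mem_of_sq o ?_
  have : y * y = y * a * y⁻¹ * a⁻¹ := by
    calc _ = y * (a * y * a⁻¹)⁻¹ := by rw [i, inv_inv]
      _ = _ := by group
  exact this ▸ mul_mem k (inv_mem h)

theorem cc_le (o : Odd (orderOf y)) (i : a * y * a⁻¹ = y⁻¹) :
    𝐂₁ a ⊓ 𝐂₁ (y * a * y⁻¹) ≤ 𝐂₁ y := fun _ h =>
  mem_cent1_comm.1 (mem_of_inv o i (mem_cent1_comm.1 h.1) (mem_cent1_comm.1 h.2))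

theorem mem_centMod_of (l : L ≤ U) (h : ∀ u ∈ U, ⁅a, u⁆ ∈ L) : a ∈ centMod U L := by
  refine mem_centMod.2 ⟨mem_norm_of_cj_le fun x hx => ?_, h⟩
  obtain ⟨v, hv, rfl⟩ := mem_cj_iff.1 hx
  have := mul_mem (h v (l hv)) hv
  rwa [commutatorElement_def, inv_mul_cancel_right] at this

omit [Finite Γ] in
theorem quad (e : Abelem 2 U) (n : a ∈ 𝐍 U) (aa : a * a = 1) {u : Γ} (hu : u ∈ U) :
    ⁅a, u⁆ ∈ U ⊓ 𝐂₁ a := by
  have w := conj_mem_of_norm n hu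
  refine mem_inf.2 ⟨U.mul_mem w (U.inv_mem hu), mem_cent1.2 ?_⟩
  have a1 : a⁻¹ = a := inv_eq_of_mul_eq_one_right aa
  have c := e.abel.mul_comm w hu
  rw [commutatorElement_def, inv1 e hu, c, a1]
  calc _ = u * a * u * (a * a) := by group
    _ = (a * a) * u * a * u := by rw [aa]; group
    _ = a * (a * u * a⁻¹ * u) := by rw [a1]; group
    _ = _ := by rw [c, a1]

theorem cm_le_cc (e : Abelem 2 U) (n : a ∈ 𝐍 U) (m : y ∈ 𝐍 U) (aa : a * a = 1)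
    (o : Odd (orderOf y)) (i : a * y * a⁻¹ = y⁻¹) :
    ⁅U, zpowers y⁆ ≤ (U ⊓ 𝐂₁ a) ⊔ (U ⊓ 𝐂₁ (y * a * y⁻¹)) := by
  have l : (U ⊓ 𝐂₁ a) ⊔ (U ⊓ 𝐂₁ (y * a * y⁻¹)) ≤ U := sup_le inf_le_left inf_le_left
  have := mem_of_inv o i (mem_centMod_of l fun u hu => mem_sup_left (quad e n aa hu))
    (mem_centMod_of l fun u hu => mem_sup_right (quad e (mul_mem (mul_mem m n) (inv_mem m))
      (by calc _ = y * (a * a) * y⁻¹ := by group
            _ = 1 := by rw [aa]; group) hu))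
  rw [commutator_comm]
  exact (le_centMod.1 (zpowers_le.2 this)).2

theorem idx_sq (e : Abelem 2 V) (n : a ∈ 𝐍 V) (m : y ∈ 𝐍 V) (aa : a * a = 1)
    (o : Odd (orderOf y)) (i : a * y * a⁻¹ = y⁻¹) : ∃ c, (𝐂₁ y).relIndex V = c * c := by
  have l : ⁅V, zpowers y⁆ ≤ V := cm_le m
  have eU := e.le l
  have nU : a ∈ 𝐍 ⁅V, zpowers y⁆ := by rw [← cj_eq_self, cj_cm n, i, zpowers_inv]
  have mU := cm_norm V y
  have h := cm_le_cc eU nU mU aa o i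
  rw [comm_comm_eq (zpowers_le.2 m) (odd_cop o e.pi) (.inr e.abel.sol)] at h
  have q := le_antisymm h (sup_le inf_le_left inf_le_left)
  refine ⟨♯(⁅V, zpowers y⁆ ⊓ 𝐂₁ a), ?_⟩
  rw [← card_cm e.abel m]
  conv_lhs => rw [q]
  rw [card_sup_of_inf_bot (.inl (inf_le_left.trans (eU.abel.le_norm inf_le_left)))
    (eq_bot_of_forall fun x hx => cm_fix e m o hx.1.1 (cc_le o i ⟨hx.1.2, hx.2.2⟩)),
    ← cj_cent1, ← card_cj y (⁅V, zpowers y⁆ ⊓ 𝐂₁ a), cj_inf, cj_of_norm mU]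

omit [Finite Γ] in
theorem mem_qc (ht : t ∈ 𝐍 N) : x ∈ qp N (𝐂₁ (qe N t)) ↔ x ∈ 𝐍 N ∧ ⁅x, t⁆ ∈ N := by
  rw [mem_qp]
  refine and_congr_right fun hx => ?_
  rw [mem_cent1, ← qe_eq_one (x := ⁅x, t⁆) (mul_mem (mul_mem (mul_mem hx ht) (inv_mem hx))
    (inv_mem ht)), qe_comm hx ht, commutatorElement_eq_one_iff_mul_comm]

/-- the hypotheses of the factorization theorem -/
structure Cx (H A T W : Subgroup Γ) : Prop where
  fp : Fp H A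
  sol : Sol H
  syl : Syl 2 T H
  aT : A ≤ 𝐍 T
  cq : H ⊓ 𝐂 (𝐎 {2} H) ≤ 𝐎 {2} H
  wT : W ≤ T
  ab : Abelem 2 W
  tW : T ≤ 𝐍 W
  aW : A ≤ 𝐍 W
  jW : JJ T ≤ 𝐂 W
  nJ : H ⊓ 𝐍 (JJ T) ≤ 𝐍 W
  wh : Wh T W A

theorem Cx.mono (h : Cx H A T W) (l : T ≤ K) (k : K ≤ H) (n : A ≤ 𝐍 K) : Cx K A T W := by
  have q : 𝐎 {2} H ≤ 𝐎 {2} K := O_le_O_of_le k (h.syl.O_le.trans l)
  exact { h with
    fp := h.fp.mono k n, sol := h.sol.mono k, syl := h.syl.of_le l k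
    cq := ((inf_le_inf k (cent_anti q)).trans h.cq).trans q
    nJ := (inf_le_inf_right _ k).trans h.nJ }

/-- a minimal counterexample -/
structure Cy (H A T W : Subgroup Γ) : Prop extends Cx H A T W where
  ne : ¬ H ≤ 𝐍 W
  ih : ∀ K, T ≤ K → K ≤ H → K ≠ H → A ≤ 𝐍 K → K ≤ 𝐍 W

/-- output of the hyperplane lemma -/
structure Ly (H W E E0 : Subgroup Γ) (t y : Γ) : Prop where
  q : 𝐎 {2} H ≤ E0
  le : E0 ≤ E
  idx : E0.relIndex E = 2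
  nt : t ∉ E0
  yH : y ∈ H
  odd : Odd (orderOf y)
  inv : t * y * t⁻¹ = y⁻¹
  cm : ∀ e ∈ E0, ⁅y, e⁆ ∈ 𝐎 {2} H
  nW : y ∉ 𝐍 W

namespace Cy
variable (h : Cy H A T W)
include h

omit [Finite Γ] in
theorem wn : Wn T W := ⟨h.wh.nf, h.wh.f1⟩

theorem QT : 𝐎 {2} H ≤ T := h.syl.O_le

theorem aQ : A ≤ 𝐍 (𝐎 {2} H) := le_norm_O _ h.fp.norm

omit [Finite Γ] in
theorem dich (n : N ⊴ H) (a : A ≤ 𝐍 N) : N ⊔ T = H ∨ N ≤ 𝐍 W := by
  by_contra k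
  rw [not_or] at k
  exact k.2 (le_sup_left.trans (h.ih _ le_sup_right (sup_le n.le h.syl.le) k.1 (norm_sup a h.aT)))

theorem dich' (n : N ⊴ H) (a : A ≤ 𝐍 N) (l : N ≤ 𝐍 W) : T ⊓ N ≤ 𝐎 {2} H := by
  have f := (h.syl.inf_normal n).syl_frattini_sup n
  by_cases e : H ⊓ 𝐍 (T ⊓ N) = H
  · exact le_O ⟨inf_le_left.trans h.syl.le, e.ge.trans inf_le_right⟩ h.syl.pi.inf_left
  · refine (h.ne (f.ge.trans (sup_le l (h.ih _ ?_ inf_le_left e ?_)))).elim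
    · exact le_inf h.syl.le (norm_inf (le_norm_self T) (h.syl.le.trans n.norm))
    · exact norm_inf h.fp.norm ((norm_inf h.aT a).trans (norm_le_norm_norm _))

theorem exNP : ∃ N P, N ⊴ H ∧ P ⊴ H ∧ 𝐎 {2} H ≤ N ∧ N ≤ P ∧ T ⊓ P ≤ 𝐎 {2} H ∧ P ⊓ 𝐍 W ≤ N ∧
    T ⊓ centMod P N ≤ 𝐎 {2} H := by
  obtain ⟨N, -, ⟨n1, n2, n3⟩, mx⟩ := exists_maximal
    (P := fun X => X ⊴ H ∧ A ≤ 𝐍 X ∧ X ≤ 𝐍 W) (H := ⊥) ⟨.bot H, by simp, bot_le⟩
  have mx' : ∀ X, X ⊴ H → A ≤ 𝐍 X → X ≤ 𝐍 W → X ≤ N := fun X a b c =>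
    le_sup_right.trans (mx (N ⊔ X) ⟨n1.sup a, norm_sup n2 b, sup_le n3 c⟩ le_sup_left).le
  obtain ⟨P, hP, c⟩ := exists_chief_above (L := H ⊔ A) ⟨n1.le.trans le_sup_left, sup_le n1.norm n2⟩
    (normalIn_sup_left h.fp.norm) (lt_of_le_of_ne n1.le fun e => h.ne (e ▸ n3))
  obtain ⟨p, hp, ab⟩ := c.minN.exists_abelem ((h.sol.mono hP).qt N)
  have p1 : P ⊴ H := c.normal.of_le hP le_sup_left
  have p2 : A ≤ 𝐍 P := le_sup_right.trans c.normal.norm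
  have nP : P ≤ 𝐍 N := hP.trans n1.norm
  have p3 : ¬ P ≤ 𝐍 W := fun k => c.lt.not_ge (mx' P p1 p2 k)
  have e : P ⊔ T = H := (h.dich p1 p2).resolve_right p3
  have ix : PiNat {p} (N.relIndex P) := (piGrp_qt_iff nP).1 ab.pi
  have p4 : p ≠ 2 := by
    rintro rfl
    have a := (h.syl.inf_normal p1).idx_of_le (K := N ⊔ (T ⊓ P)) le_sup_right
    exact p3 ((relIndex_eq_one.1 ((ix.dvd (relIndex_dvd_left P le_sup_left)).eq_one a)).trans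
      (sup_le n3 (inf_le_left.trans h.tW)))
  have q := h.dich' n1 n2 n3
  have nS : T ≤ 𝐍 (T ⊓ centMod P N) := norm_inf (le_norm_self T)
    (norm_centMod (h.syl.le.trans p1.norm) (h.syl.le.trans n1.norm))
  refine ⟨N, P, n1, p1, mx' _ (O_normal _ _) h.aQ (h.QT.trans h.tW), c.lt.le, ?_, ?_, ?_⟩
  · exact (le_inf inf_le_left (h.syl.pi.inf_left.le_of_relIndex inf_le_right nP
      (ix.to_compl_single (by simpa using p4.symm)))).trans q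
  · refine mx' _ ⟨inf_le_left.trans hP, e.ge.trans (sup_le ?_ ?_)⟩ ?_ inf_le_right
    · exact norm_of_der_le inf_le_left (((abel_qt_iff nP).1 ab.abel).trans (le_inf c.lt.le n3))
    · exact norm_inf (h.syl.le.trans p1.norm) (norm_of_le h.tW)
    · exact norm_inf p2 (h.aW.trans (norm_le_norm_norm _))
  · refine (le_inf inf_le_left (le_sup_right.trans (mx' (N ⊔ (T ⊓ centMod P N))
      ⟨sup_le n1.le (inf_le_left.trans h.syl.le), e.ge.trans (sup_le ?_ ?_)⟩ ?_ ?_))).trans q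
    · refine norm_of_comm_le ((comm_sup_le (comm_le_left nP) ?_ (le_norm_self N) ?_).trans le_sup_left)
      · exact (commutator_mono inf_le_right le_rfl).trans (comm_centMod_le P N)
      · exact inf_le_right.trans (centMod_le_norm _ _)
    · exact norm_sup (h.syl.le.trans n1.norm) nS
    · exact norm_sup n2 (norm_inf h.aT (norm_centMod p2 n2))
    · exact sup_le n3 (inf_le_left.trans h.tW)

theorem exLy (q : 𝐎 {2} H ≤ E) (l : E ≤ T) (e : Abelem 2 (qt (𝐎 {2} H) E)) (ht : t ∈ E)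
    (nt : t ∉ 𝐎 {2} H) (tt : t * t = 1) : ∃ E0 y, Ly H W E E0 t y := by
  obtain ⟨N, P, n, p, qN, nP, tP, pW, cP⟩ := h.exNP
  set Q := 𝐎 {2} H with hQ
  have hN : H ≤ 𝐍 Q := (O_normal _ _).norm
  have eH : E ≤ H := l.trans h.syl.le
  have tN : t ∈ 𝐍 N := n.norm (eH ht)
  have tQ : t ∈ 𝐍 Q := hN (eH ht)
  have s : Syl 2 Q P := by
    have := h.syl.inf_normal p
    rwa [le_antisymm tP (le_inf h.QT (qN.trans nP))] at this
  obtain ⟨m, hm⟩ := Nat.exists_eq_succ_of_ne_zero (e.pi.logn_pos.2 fun k =>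
    nt ((qt_eq_bot (eH.trans hN)).1 k ht)).ne'
  have el := e.elem le_rfl
  rw [hm] at el
  have ql : Q ≤ qp N (𝐂₁ (qe N t)) := qN.trans (le_qp _)
  by_contra k
  have := el.le_of_cent (K := qt Q P) (L := qt Q (qp N (𝐂₁ (qe N t)))) (qt_norm Q (eH.trans p.norm))
    ((piGrp_qt_iff (p.le.trans hN)).2 s.idx) fun B hB z hz => ?_
  · rw [qt_le_qt_iff' (p.le.trans hN) ql] at this
    refine nt (cP ⟨l ht, mem_centMod.2 ⟨tN, fun u hu => ?_⟩⟩)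
    rw [← commutatorElement_inv]
    exact inv_mem ((mem_qc tN).1 (this hu)).2
  obtain ⟨c, cP', cQ, rfl⟩ := mem_qt.1 hz.1
  refine qe_mem_qt ((mem_qc tN).2 ⟨n.norm (p.le cP'), ?_⟩) cQ
  by_contra u
  have uP : ⁅c, t⁆ ∈ P := by
    have := mul_mem cP' (p.conj_mem (eH ht) (inv_mem cP'))
    simpa only [commutatorElement_def, mul_assoc] using this
  have cX : c ∈ qp Q (𝐂 B) := mem_qp.2 ⟨cQ, hz.2⟩
  have tX : t ∈ qp Q (𝐂 B) := mem_qp.2 ⟨tQ, e.abel.cent le_rfl hB.le (qe_mem_qt ht tQ)⟩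
  have uX : ⁅c, t⁆ ∈ qp Q (𝐂 B) := mul_mem (mul_mem (mul_mem cX tX) (inv_mem cX)) (inv_mem tX)
  have yX := mem_qp.1 (constt_mem_of_mem {2}ᶜ uX)
  have yP := constt_mem_of_mem {2}ᶜ uP
  refine k ⟨qp Q B, constt {2}ᶜ ⁅c, t⁆, le_qp _, qp_le_of_le_qt ⟨q, eH.trans hN⟩ hB.le, ?_,
    fun z => u (qN ?_), p.le yP, pi_odd (constt_pi _ _), ?_, fun x hx => ?_, fun z => u ?_⟩
  · rw [relIndex_qp_left _ (eH.trans hN), Elem.relIndex (n := 1) el hB, pow_one]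
  · exact ((mem_qc tQ).1 (mem_qp.2 ⟨cQ, cent_le_cent1 (mem_qp.1 z).2 hz.2⟩)).2
  · obtain ⟨j, hj⟩ := mem_zpowers_iff.1 (constt_mem {2}ᶜ ⁅c, t⁆)
    have t1 : t⁻¹ = t := inv_eq_of_mul_eq_one_right tt
    have : t * ⁅c, t⁆ * t⁻¹ = ⁅c, t⁆⁻¹ := by
      rw [commutatorElement_inv, commutatorElement_def, commutatorElement_def, t1]
      calc _ = t * c * t * c⁻¹ * (t * t) := by group
        _ = _ := by rw [tt, mul_one]
    rw [← hj, ← conj_zpow, this, inv_zpow]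
  · have := mem_qp.1 hx
    exact ((mem_qc this.1).1 (mem_qp.2 ⟨yX.1, cent_le_cent1 this.2 yX.2⟩)).2
  · rw [← constt_mul_constt {2} ⁅c, t⁆]
    exact mul_mem (qN (s.mem_normal (p.le.trans hN) (constt_mem_of_mem _ uP) (constt_pi _ _)))
      (pW ⟨yP, z⟩)

end Cy

end CF.Fpf
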