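import Cfsg.Agent.Fpf.N2

/-! The rank one block under weaker hypotheses -/

set_option autoImplicit false

namespace CF.Fpf
open Cfsg Subgroup CF.Loc CF.FF Function
open CF.PLocal (maxAb thompson_le le_thompson)
open scoped commutatorElement MatrixGroups

universe u

variable {G : Type u} [Group G] {p : ℕ} {H P S T M A B C D K L N V W X Y Z : Subgroup G} {g : G}

/-- `M` contains `C_H(Ω₁Z(T))`, `N_H(J(T))` and `N_H(B(T))` -/
structure Hz (p : ℕ) (H T M : Subgroup G) : Prop where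
  ch : IsCharP p H
  syl : IsSyl p T H
  le : T ≤ M
  cz : H ⊓ 𝐂(𝛀[p](T)) ≤ M
  nJ : H ⊓ 𝐍(𝐉[p](T)) ≤ M
  nB : H ⊓ 𝐍(𝐁[p](T)) ≤ M

variable [Finite G] [hp : Fact p.Prime]

namespace Hz
variable (h : Hz p H T M)
include h

omit [Finite G] in
theorem mono (h1 : T ≤ K) (h2 : K ≤ H) : Hz p K T M :=
  ⟨h.ch.of_pCoreOf_le (h.syl.pCoreOf_le.trans h1) h2, h.syl.mono h1 h2, h.le, (inf_le_inf_right _ h2).trans h.cz,
    (inf_le_inf_right _ h2).trans h.nJ, (inf_le_inf_right _ h2).trans h.nB⟩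

omit [Finite G] in
theorem cV : H ⊓ 𝐂(𝐔[p](H)) ≤ M := (inf_le_inf_left _ (centralizer_anti (h.ch.omegaOneCenter_le h.syl))).trans h.cz

omit [Finite G] hp in
theorem pm (u : UMax T (H ⊓ M) H) : PM p H T (H ⊓ M) 𝐔[p](H) :=
  ⟨rfl, h.syl, u, h.ch, le_inf inf_le_left h.cz, le_inf inf_le_left h.nJ⟩

theorem nat (LP : L ≤ H) (LM : ¬ L ≤ M) (pu : PU p L S (L ⊓ M)) (ch : IsCharP p L) (BS : 𝐁[p](T) ≤ S) (ST : S ≤ T) :
    ∃ C ∈ maxAb p S, C ⊔ 𝐎[p](L) = S ∧ ∃ (F : Type) (_ : Field F) (_ : Fintype F) (ρ : G → SL(2, F)) (ψ : G → Fin 2 → F),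
      PW p F L S (L ⊓ M) 𝐔[p](L) ρ ψ := by
  have s3 := pu.syl
  obtain ⟨C, hC, c0⟩ : ∃ C ∈ maxAb p T, ¬ C ≤ 𝐎[p](L) := by_contra fun c => by
    push Not at c
    exact LM ((le_inf LP (CF.PLocal.thompson_eq_of_le (CF.PLocal.thompson_le_iff.2 c) (s3.pCoreOf_le.trans ST) ▸
      (le_normalizer_pCoreOf p L).trans (norm_thompson p _))).trans h.nJ)
  have CS : C ≤ S := ((le_thompson hC).trans (thompson_le_baumann p T)).trans BS
  have ea := isElemAb_omegaOneCenter p 𝐎[p](L)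
  obtain ⟨e, F', _, _, ρ', ψ', n', m'⟩ := pu.nat (U_ab p L) (isElemAb_isPGroup ea) (norm_omega p L) (core_cent_U p L) (by
      rw [omega_inf_cent s3 ch]
      exact fun e => LM ((le_inf LP (le_centralizer_comm.1 ((le_omegaOneCenter (isElemAb_omegaOneCenter p T)
        (((omega_le_J p T).trans (thompson_le_baumann p T)).trans BS) ((omegaOneCenter_le_centralizer p T).trans
          (centralizer_anti ST))).trans e))).trans h.cz)) CS c0
    ((Nat.mul_le_mul_right _ (card_le_card_of_le (inf_le_inf_left _ (core_cent_U p L)))).trans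
      (maxAb_off hC ((U_le_core p L).trans (s3.pCoreOf_le.trans ST)) ea))
  exact ⟨C, CF.PLocal.mem_maxAb_of_le hC CS ST, e, F', _, ‹_›, ρ', ψ', s3, pu.um, ea,
    le_inf (U_le_core p L) (omegaOneCenter_le_centralizer _ _), n', m'⟩

end Hz

/-- The rank one subgroup over the Baumann subgroup in a `p`-minimal group. -/
theorem Hz.rk (h : Hz p P T M) (u : UMax T (P ⊓ M) P) : ∃ L ≤ P, 𝐎[p](P) ≤ 𝐍(L) ∧ ¬ L ≤ M ∧
    PU p L 𝐁[p](T) (L ⊓ M) ∧ IsCharP p L := by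
  have m := h.pm u
  generalize 𝐔[p](P) = V at m
  have s := m.str
  have f := s.fam
  have nV := m.norm
  obtain ⟨A, hA, A', hA', o⟩ := m.exists_off
  obtain ⟨A₀, L₀, t⟩ := s.exists_top o
  obtain ⟨F, _, _, ρ, ψ, n, hi⟩ := t.nat
  have iB := IsSyl.isB h.syl
  have BT := baumann_le p T
  have OT := h.syl.pCoreOf_le
  have TP := h.syl.le
  have eB := m.bar_B
  have pA := isElemAb_isPGroup t.off.ea
  have AB : A₀ ≤ bar V 𝐁[p](T) := eB ▸ le_offJ t.off t.le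
  obtain ⟨B₀, hB₀⟩ : ∃ B₀, B₀ = bar V 𝐁[p](T) ⊓ 𝐂(L₀) := ⟨_, rfl⟩
  have b1 : B₀ ≤ bar V 𝐁[p](T) := hB₀ ▸ inf_le_left
  have b2 : L₀ ≤ 𝐂(B₀) := le_centralizer_comm.1 (hB₀ ▸ inf_le_right)
  have b3 : B₀ ⊔ A₀ = bar V 𝐁[p](T) := le_antisymm (sup_le b1 AB) (eB.le.trans (sSup_le fun C hC => by
    by_cases e : A₀ = C
    · exact e ▸ le_sup_right
    · exact le_sup_of_le_left (hB₀ ▸ le_inf (eB ▸ le_offJ hC.2 hC.1) (t.cent C hC.1 hC.2 e).2)))
  have b4 := b2.trans (centralizer_le_normalizer _)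
  have pB : IsPGroup p (bar V 𝐁[p](T)) := s.syl.isPGroup.to_le (bar_mono BT)
  have bM : bar V 𝐁[p](T) ≤ bar V (P ⊓ M) := (bar_mono BT).trans s.um.le
  have k0 : B₀ ⊔ L₀ ≤ bar V P := sup_le (b1.trans (bar_mono (BT.trans TP))) t.le'
  have s1 : IsSyl p (bar V 𝐁[p](T)) (B₀ ⊔ L₀) := ⟨b3 ▸ sup_le_sup_left n.le _, pB, fun Q hQ a b => by
    have := sup_inf_of_le_normalizer_left b4 (b1.trans a)
    rw [inf_eq_right.2 b, IsSyl.eq_of_le (n.isSyl hi pA) (hQ.to_le inf_le_right) (le_inf n.le (AB.trans a)) inf_le_left, b3] at this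
    exact this⟩
  obtain ⟨S, hS⟩ : ∃ S, S = 𝐁[p](T) ⊔ 𝐎[p](P) := ⟨_, rfl⟩
  have ST : S ≤ T := hS ▸ sup_le BT OT
  have BS : 𝐁[p](T) ≤ S := hS ▸ le_sup_left
  have OS : 𝐎[p](P) ≤ S := hS ▸ le_sup_right
  have pS := h.syl.isPGroup.to_le ST
  have eS : bar V S = bar V 𝐁[p](T) := hS ▸ bar_sup_of_le_centralizer ((BT.trans TP).trans nV) m.core_cent
  have SK : S ≤ P ⊓ unbar V (B₀ ⊔ L₀) := le_inf (ST.trans TP) ((bar_le_iff ((ST.trans TP).trans nV)).1 (eS ▸ s1.le))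
  have nM : ∀ K ≤ P, bar V K ≤ bar V (P ⊓ M) ↔ K ≤ M := fun K hK => ⟨fun e => (inf_le_of_bar hK nV inf_le_left e).trans
    ((sup_le le_rfl m.cent_le).trans inf_le_right), fun e => bar_mono (le_inf hK e)⟩
  have s2 : IsSyl p S (P ⊓ unbar V (B₀ ⊔ L₀)) := isSyl_of_bar (inf_le_left.trans nV) SK pS (by rwa [eS, bar_unbar k0])
    ((h.syl.inf_of_le_normalizer inf_le_left (le_normalizer_inf le_normalizer (le_normalizer_centralizer nV))).mono
      (le_inf (le_inf (inf_le_left.trans TP) ((inf_le_right.trans inf_le_right).trans (centralizer_le_unbar _)))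
        (inf_le_right.trans inf_le_right)) (inf_le_inf_right _ inf_le_left))
    (((inf_le_inf_left _ inf_le_right).trans m.inf_cent).trans OS)
  obtain ⟨L, l1, l2⟩ := exists_uMax (ST.trans h.le) SK fun e => t.nle (le_sup_right.trans
    ((bar_unbar k0).ge.trans ((nM _ inf_le_left).2 e)))
  have LP := l1.trans inf_le_left
  have nL := LP.trans nV
  have SL := l2.le.trans inf_le_left
  have s3 := s2.mono SL l1
  have LM : ¬ L ≤ M := fun e => l2.lt.not_ge (le_inf le_rfl e)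
  have l3 : bar V L ≤ B₀ ⊔ L₀ := (bar_mono l1).trans (bar_unbar k0).le
  have l4 : bar V 𝐁[p](T) ≤ bar V L := bar_mono (BS.trans SL)
  have l5 : L₀ ≤ bar V L := by
    have := sup_inf_of_le_normalizer_left b4 (b1.trans l4)
    rw [inf_eq_right.2 l3] at this
    obtain ⟨g, hg, g0⟩ := SetLike.not_le_iff_exists.1 fun e : L₀ ⊓ bar V L ≤ bar V (P ⊓ M) =>
      LM ((nM L LP).1 (this.le.trans (sup_le (b1.trans bM) e)))
    refine (n.sup_cj hi hg.1 fun e => g0 (s.norm_offJ t.off t.le ⟨t.le' hg.1, cj_eq_self_iff.1 ?_⟩)).ge.trans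
      (sup_le (AB.trans l4) (cj_le_of_mem hg.2 (AB.trans l4)))
    rw [← eB, ← b3, cj_sup, cj_eq_self (b4 hg.1), cj_eq_self (n.mem_norm hi hg.1 e)]
  have nN : L ≤ 𝐍(unbar V B₀) := le_normalizer_unbar nL (l3.trans (sup_le le_normalizer b4))
  have n1 : S ⊓ unbar V B₀ ≤ 𝐎[p](L) := inf_le_core s3 l2 nN fun e => LM ((nM L LP).1 (by
    rw [← s3.pResidualOf_sup, bar_sup ((pResidualOf_le _ _).trans nL) (SL.trans nL), eS]
    exact sup_le (((bar_le_iff ((pResidualOf_le _ _).trans nL)).2 e).trans (b1.trans bM)) bM))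
  have ne : ¬ S ≤ 𝐎[p](L) := fun e => LM ((le_inf LP ((le_normalizer_pCoreOf p L).trans (iB.norm_le (isPGroup_pCoreOf p L)
    (BS.trans e) ((pCoreOf_le _ _).trans LP)))).trans h.nB)
  have pu : PU p L S (L ⊓ M) := by
    refine ⟨s3, l2, ne, (le_inf (commutator_le_self S) ?_).trans n1, ?_⟩
    · rw [← bar_le_iff ((commutator_le_self S).trans (SL.trans nL)), bar_commutator (SL.trans nL) (SL.trans nL), eS, ← b3]
      have a1 := n.le.trans b4
      exact commutator_sup_left_le le_normalizer a1 (commutator_le_left_of_le_normalizer (sup_le le_normalizer a1))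
        (commutator_sup_right_le le_normalizer a1 (comm_le_of_cent (n.le.trans b2)) (comm_le_of_cent (n.ab hi)))
    by_cases h4 : 4 ≤ Nat.card F
    · left
      have r := pResidualOf_le p L
      have a1 : L₀ ≤ bar V 𝐑[p](L) := by
        rw [bar_res nL]
        exact le_pResidualOf_of_perfect (n.perfect hi h4) l5
      have a2 : L ⊓ unbar V B₀ ≤ 𝐑[p](L) ⊔ 𝐎[p](L) :=
        (s3.inf_of_le_normalizer inf_le_left (le_normalizer_inf le_normalizer nN)).pResidualOf_sup.ge.trans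
          (sup_le_sup (pResidualOf_mono inf_le_left) ((inf_le_inf_left _ inf_le_right).trans n1))
      refine (inf_le_of_bar (Y := 𝐑[p](L) ⊔ (L ⊓ unbar V B₀)) SL nL (sup_le r inf_le_left) ?_).trans
        (sup_le (sup_le le_sup_left a2) ((inf_le_inf_left _ (centralizer_le_unbar _)).trans a2))
      rw [bar_sup (r.trans nL) (inf_le_left.trans nL), bar_unbar (b1.trans l4), eS, ← b3, sup_comm]
      exact sup_le_sup_right (n.le.trans a1) _
    · right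
      obtain ⟨k, k1, hk⟩ := n.card_eq hi pA
      have a1 : Nat.card F = p := by
        have := hp.out.two_le
        rcases k1.eq_or_lt with rfl | k2
        · rw [hk, pow_one]
        · exact absurd (hk ▸ (Nat.pow_le_pow_left this 2).trans (Nat.pow_le_pow_right (by omega) k2)) h4
      have a2 := relIndex_dvd_of_le_left S n1
      rw [inf_comm, inf_relIndex_right, relIndex_unbar (SL.trans nL), eS, ← b3, relIndex_sup_of_normalizes (.inr (n.le.trans b4))] at a2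
      exact ((Nat.dvd_prime hp.out).1 ((a2.trans (relIndex_dvd_card _ _)).trans ((n.card_A' hi).trans a1).dvd)).resolve_left
        (mt relIndex_eq_one.1 ne)
  have OL : 𝐎[p](P) ≤ L := OS.trans SL
  have ch := h.ch.of_pCoreOf_le OL LP
  obtain ⟨C, hC, e, F', _, _, ρ', ψ', w⟩ := h.nat LP LM pu ch BS ST
  have sy := w.baumann hC e
  rw [baumann_eq BS ST] at sy
  have pu' := pu.sub (le_antisymm (sup_le BS s3.pCoreOf_le) (hS.le.trans (sup_le_sup_left (pCoreOf_le_pCoreOf_of_le LP OL) _))) sy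
  have l6 := ncl_le_of_le (BS.trans SL)
  exact ⟨_, l6.trans LP, OL.trans (le_normalizer_ncl _ _), fun e => pu'.um.lt.not_ge (le_inf le_rfl e), pu',
    ch.of_normal l6 (le_normalizer_ncl _ _)⟩

/-- a pushing up situation with a noncentral submodule -/
structure BH (p : ℕ) (P S M V : Subgroup G) : Prop where
  pu : PU p P S M
  ch : IsCharP p P
  le : V ≤ 𝐕[p](P)
  norm : P ≤ 𝐍(V)
  nt : ¬ 𝐑[p](P) ≤ 𝐂(V)

section Map
variable {G' : Type*} [Group G'] {f : G →* G'}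

protected theorem BH.map (h : BH p P S M V) (hf : Injective f) : BH p (P.map f) (S.map f) (M.map f) (V.map f) :=
  ⟨h.pu.map hf, (isCharP_map hf).2 h.ch, V_map (p := p) hf P ▸ map_mono h.le, (norm_map_iff hf).2 h.norm,
    map_pResidualOf (p := p) f P ▸ mt (cent_map_iff hf).1 h.nt⟩

theorem BH.of_map (hf : Injective f) (h : BH p (P.map f) (S.map f) (M.map f) (V.map f)) : BH p P S M V := by
  obtain ⟨⟨a, b, c, d, e⟩, ch, l, n, t⟩ := h
  have m : ∀ {A B : Subgroup G}, A.map f ≤ B.map f ↔ A ≤ B := map_le_map_iff_of_injective hf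
  have m' : ∀ {A B : Subgroup G}, A.map f < B.map f ↔ A < B := lt_iff_lt_of_le_iff_le' m m
  rw [V_map hf, m] at l
  rw [core_map hf] at c d e
  rw [← map_pResidualOf] at e t
  rw [← Subgroup.map_sup, m, relIndex_map_map_of_injective _ _ hf] at e
  rw [← map_commutator, m] at d
  exact ⟨⟨⟨m.1 a.le, a.isPGroup.of_equiv (equivMapOfInjective S f hf).symm, fun Q hQ x y => map_injective hf
    (a.eq_of_le (hQ.map f) (m.2 x) (m.2 y))⟩, ⟨m.1 b.le, m'.1 b.lt, fun X x y => m.1 (b.le_of_lt (m.2 x) (m'.2 y))⟩,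
    mt m.2 c, d, e⟩, (isCharP_map hf).1 ch, l, (norm_map_iff hf).1 n, mt (cent_map_iff hf).2 t⟩

theorem blk_map_iff (hf : Injective f) : ⁅𝐎[p](P.map f), 𝐑[p](P.map f)⁆ ≤ V.map f ↔ ⁅𝐎[p](P), 𝐑[p](P)⁆ ≤ V := by
  rw [core_map hf, ← map_pResidualOf, ← map_commutator, map_le_map_iff_of_injective hf]

theorem pu_map (h : PU p P S M) (hk : f.ker ≤ S) : PU p (P.map f) (S.map f) (M.map f) := by
  have pk := h.syl.isPGroup.to_le hk
  have kO : f.ker ≤ 𝐎[p](P) := le_pCoreOf pk (hk.trans h.syl.le) (le_normalizer_of_normal' _ _)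
  refine ⟨h.syl.map f, h.um.map f (inf_le_right.trans (hk.trans h.um.le)), mt (map_le_pCoreOf_iff pk h.syl.le).1 h.ne,
    ?_, ?_⟩ <;> rw [← map_pCoreOf_of_ker pk]
  · rw [← map_commutator]; exact map_mono h.ab
  · rw [← map_pResidualOf, ← Subgroup.map_sup, relIndex_map_map, sup_eq_left.2 kO, sup_eq_left.2 hk]
    exact h.gen.imp_left map_mono

end Map

theorem BH.blk_core (h : BH 2 P S M V) (hN : S ≤ N) (hN' : N ≤ 𝐍(S)) [D.Normal] (hD : D ≤ S)
    (mx : ∀ Y ≤ S, N ≤ 𝐍(Y) → P ≤ 𝐍(Y) → Y ≤ D) (c : 𝐑[2](P) ≤ 𝐂(D)) : ⁅𝐎[2](P), 𝐑[2](P)⁆ ≤ V := by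
  obtain ⟨f, hf⟩ : ∃ f : G →* G ⧸ D, f.ker = D := ⟨_, QuotientGroup.ker_mk' D⟩
  have nD : ∀ X : Subgroup G, X ≤ 𝐍(D) := fun X => le_normalizer_of_normal' _ _
  have pD := h.pu.syl.isPGroup.to_le hD
  have pk : IsPGroup 2 f.ker := by rwa [hf]
  have DO : D ≤ 𝐎[2](P) := le_pCoreOf pD (hD.trans h.pu.syl.le) (nD _)
  have cm : ∀ {X Y : Subgroup G}, X.map f ≤ 𝐂(Y.map f) ↔ ⁅X, Y⁆ ≤ D := fun {X Y} => by
    rw [← commutator_eq_bot_iff_le_centralizer, ← map_commutator, Subgroup.map_eq_bot_iff, hf]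
  have nO := le_normalizer_pCoreOf 2 P
  have pO := isPGroup_pCoreOf 2 P
  have cD : ∀ {X K : Subgroup G}, IsPGroup 2 X → K ≤ P → K ≤ 𝐍(X) → ⁅X, 𝐑[2](K)⁆ ≤ D → 𝐑[2](K) ≤ 𝐂(X) :=
    fun {X K} a l b e => commutator_eq_bot_iff_le_centralizer'.1 (le_bot_iff.1 ((commutator_commutator_pResidualOf a b).ge.trans
      ((commutator_mono e le_rfl).trans (comm_le_of_cent' ((pResidualOf_mono l).trans c)))))
  have ch : IsCharP 2 (P.map f) := by
    refine isCharP_of_isPGroup_centralizer ?_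
    rw [← map_inf_comap inf_le_left, ← map_pCoreOf_of_ker pk]
    refine IsPGroup.map (h.ch.isPGroup_of_pResidualOf_le inf_le_left (cD pO inf_le_left (inf_le_left.trans nO) ?_)) f
    rw [commutator_comm, ← cm]
    exact (map_mono ((pResidualOf_le _ _).trans inf_le_right)).trans ((map_comap_le _ _).trans inf_le_right)
  obtain ⟨X, r⟩ := (pu_map h.pu (hf.le.trans hD)).rkd ch (map_mono hN) (map_le_normalizer_map f hN') fun Y hY a b => by
    rw [← map_inf_comap hY, Subgroup.map_eq_bot_iff, hf]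
    exact mx _ inf_le_left (le_normalizer_inf hN' ((le_comap_map f N).trans (comap_le_normalizer_comap f a)))
      (by rw [inf_eq_right.2 ((comap_mono hY).trans (by rw [comap_map_eq, hf, sup_eq_left.2 hD]))]
          exact (le_comap_map f P).trans (comap_le_normalizer_comap f b))
  obtain ⟨F, _, _, ρ, ψ, n, -⟩ := r.pan.nat
  have VO : V ≤ 𝐎[2](P) := h.le.trans inf_le_left
  have l : V.map f ≤ 𝐕[2](P.map f) := by
    rw [← map_pCoreOf_of_ker pk]
    exact le_inf (map_mono VO) (cm.2 (comm_le_of_cent (h.le.trans inf_le_right)))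
  have RP := pResidualOf_le 2 P
  have e := (n.sec.irred (le_normalizer_sup (map_le_normalizer_map f h.norm) n.sec.norm₀) le_sup_right
    (sup_le l inf_le_left)).resolve_left fun e => h.nt (cD (pO.to_le VO) le_rfl h.norm ((commutator_mono le_rfl RP).trans
      (cm.1 ((le_sup_left.trans e.le).trans inf_le_right))))
  have b := (r.two rfl).2
  rw [← e, ← map_inf_comap (inf_le_left.trans (inf_le_left.trans (pCoreOf_le _ _)) : 𝐕[2](P.map f) ⊓ 𝐂(P.map f) ≤ _),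
    ← Subgroup.map_sup, ← map_pCoreOf_of_ker pk, ← map_pResidualOf, ← map_commutator, map_le_iff_le_comap, comap_map_eq, hf] at b
  have nV : P ≤ 𝐍(V ⊔ D) := le_normalizer_sup h.norm (nD _)
  have VP := VO.trans (pCoreOf_le 2 P)
  have DP := hD.trans h.pu.syl.le
  have v1 : ⁅V, 𝐑[2](P)⁆ ≤ V := commutator_le_left_of_le_normalizer (RP.trans h.norm)
  have e1 := commutator_commutator_pResidualOf pO nO
  have b1 : ⁅𝐎[2](P), 𝐑[2](P)⁆ ≤ V ⊔ D := e1.ge.trans ((commutator_mono b le_rfl).trans (commutator_sup_left_le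
    ((sup_le VP inf_le_left).trans nV) (DP.trans nV) (commutator_sup_left_le (VP.trans nV) (inf_le_left.trans nV)
      (v1.trans le_sup_left) (le_sup_of_le_right ((commutator_mono le_rfl RP).trans (cm.1 ((map_mono inf_le_right).trans
        ((map_comap_le _ _).trans inf_le_right)))))) (comm_le_of_cent' c)))
  exact e1.ge.trans ((commutator_mono b1 le_rfl).trans (commutator_sup_left_le le_normalizer (DP.trans h.norm) v1
    (comm_le_of_cent' c)))

theorem BH.blk_amb (h : BH 2 P S M V) (hN : S ≤ N) (hN' : N ≤ 𝐍(S)) (hZ : Z ≤ 𝐙[S])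
    (nb : ∀ Y, Z ≤ Y → Y ≤ S → N ≤ 𝐍(Y) → ¬ P ≤ 𝐍(Y)) : ⁅𝐎[2](P), 𝐑[2](P)⁆ ≤ V := by
  obtain ⟨D, hD, n1, n2, mx⟩ : ∃ D ≤ S, N ≤ 𝐍(D) ∧ P ≤ 𝐍(D) ∧ ∀ Y ≤ S, N ≤ 𝐍(Y) → P ≤ 𝐍(Y) → Y ≤ D :=
    ⟨sSup {Y | Y ≤ S ∧ N ≤ 𝐍(Y) ∧ P ≤ 𝐍(Y)}, sSup_le fun _ h => h.1, BG.norm_sSup fun _ h => h.2.1,
      BG.norm_sSup fun _ h => h.2.2, fun Y a b c => le_sSup ⟨a, b, c⟩⟩
  have c : 𝐑[2](P) ≤ 𝐂(D) := by_contra fun c => by
    have e := inf_le_core h.pu.syl h.pu.um (le_normalizer_centralizer n2) c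
    refine nb _ (le_inf (hZ.trans inf_le_left) ((hZ.trans inf_le_right).trans (centralizer_anti hD))) inf_le_left
      (le_normalizer_inf hN' (le_normalizer_centralizer n1)) ?_
    rw [show S ⊓ 𝐂(D) = 𝐎[2](P) ⊓ 𝐂(D) from le_antisymm (le_inf e inf_le_right) (inf_le_inf_right _ h.pu.syl.pCoreOf_le)]
    exact le_normalizer_inf (le_normalizer_pCoreOf 2 P) (le_normalizer_centralizer n2)
  have nD : (D.subgroupOf 𝐍(D)).Normal := normal_in_normalizer
  have l0 : D ≤ 𝐍(D) := le_normalizer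
  have l1 := h.pu.um.lt.le.trans n2
  have l2 := (h.le.trans (inf_le_left.trans (pCoreOf_le 2 P))).trans n2
  have l3 := hN.trans n1
  have k1 := n1
  have k2 := n2
  generalize 𝐍(D) = K at nD l0 l1 l2 l3 k1 k2
  obtain ⟨D, rfl⟩ : ∃ X : Subgroup K, X.map K.subtype = D := ⟨_, map_subgroupOf_eq_of_le l0⟩
  obtain ⟨P, rfl⟩ : ∃ X : Subgroup K, X.map K.subtype = P := ⟨_, map_subgroupOf_eq_of_le k2⟩
  obtain ⟨N, rfl⟩ : ∃ X : Subgroup K, X.map K.subtype = N := ⟨_, map_subgroupOf_eq_of_le k1⟩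
  obtain ⟨S, rfl⟩ : ∃ X : Subgroup K, X.map K.subtype = S := ⟨_, map_subgroupOf_eq_of_le l3⟩
  obtain ⟨M, rfl⟩ : ∃ X : Subgroup K, X.map K.subtype = M := ⟨_, map_subgroupOf_eq_of_le l1⟩
  obtain ⟨V, rfl⟩ : ∃ X : Subgroup K, X.map K.subtype = V := ⟨_, map_subgroupOf_eq_of_le l2⟩
  have i := K.subtype_injective
  have m : ∀ {A B : Subgroup K}, A.map K.subtype ≤ B.map K.subtype ↔ A ≤ B := map_le_map_iff_of_injective i
  rw [subgroupOf, comap_map_eq_self_of_injective i] at nD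
  rw [← map_pResidualOf, cent_map_iff i] at c
  exact (blk_map_iff i).2 ((h.of_map i).blk_core (m.1 hN) ((norm_map_iff i).1 hN') (m.1 hD) (fun Y a b c =>
    m.1 (mx _ (m.2 a) ((norm_map_iff i).2 b) ((norm_map_iff i).2 c))) c)

/-- the block property from an external group of automorphisms -/
theorem BH.blk {Γ B : Type u} [Group Γ] [Finite Γ] [Group B] {τ₁ : B →* G} {τ₂ : B →* Γ} (i₁ : Injective τ₁)
    (i₂ : Injective τ₂) (h : BH 2 P (.map τ₁ ⊤) M V) {N : Subgroup Γ} (hN : .map τ₂ ⊤ ≤ N)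
    (hN' : N ≤ 𝐍(Subgroup.map τ₂ ⊤))
    {Z : Subgroup B} (hZ : Z ≤ 𝐂((⊤ : Subgroup B))) (nb : ∀ Y, Z ≤ Y → N ≤ 𝐍(Y.map τ₂) → ¬ P ≤ 𝐍(Y.map τ₁)) :
    ⁅𝐎[2](P), 𝐑[2](P)⁆ ≤ V := by
  obtain ⟨X, _, _, f₁, f₂, j₁, j₂, c⟩ := exists_amalgam i₁ i₂
  have e : ∀ Y : Subgroup B, (Y.map τ₂).map f₂ = (Y.map τ₁).map f₁ := fun Y => by rw [map_map, map_map, c]
  refine (blk_map_iff j₁).1 ((h.map j₁).blk_amb (N := N.map f₂) (Z := (Z.map τ₁).map f₁) (e ⊤ ▸ map_mono hN)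
    (e ⊤ ▸ map_le_normalizer_map f₂ hN') (le_inf (map_mono (map_mono le_top)) ((cent_map_iff j₁).2 ((cent_map_iff i₁).2 hZ)))
    fun Y a b n => ?_)
  rw [map_map] at b
  obtain ⟨Y, -, rfl⟩ : ∃ C ≤ (⊤ : Subgroup B), C.map (f₁.comp τ₁) = Y := ⟨_, inf_le_left, map_inf_comap b⟩
  rw [← map_map] at a n ⊢
  rw [← e, norm_map_iff j₂] at n
  rw [map_le_map_iff_of_injective j₁, map_le_map_iff_of_injective i₁] at a
  exact mt (norm_map_iff j₁).1 (nb Y a n)

end CF.Fpf
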