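import Cfsg.Agent.Fpf.N2
import Cfsg.Agent.Fpf.S3

/-! The block over the Baumann subgroup is defined over the field of order two -/

set_option autoImplicit false

namespace CF.Fpf
open Cfsg Subgroup CF.Loc CF.FF
open CF.PLocal (maxAb thompson_le le_thompson upT upU)
open scoped commutatorElement MatrixGroups

universe u
variable {Γ : Type u} [Group Γ] [Finite Γ] {G A T S L Q : Subgroup Γ} {F : Type} [Field F]
  {ρ : Γ → SL(2, F)} {ψ : Γ → Fin 2 → F}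

local notation "𝐌" => MM G T
local notation "𝐖" => WW G T
local notation "𝐙" => Cfsg.omegaOneCenter 2 T
local notation "𝐁₀" => Cfsg.baumannSubgroupOf 2 S

theorem Nd.exists_tor {B : Subgroup Γ} (h : Nd F B L Q ρ ψ) (l : Fˣ) :
    ∃ m ∈ L ⊓ 𝐍(B), ρ m 0 0 = l := by
  obtain ⟨x, hx, e⟩ := h.nat.ρsurj ⟨!![(l : F), 0; 0, (l⁻¹ : Fˣ)], by simp [Matrix.det_fin_two]⟩
  let K : Subgroup Γ := ((upU F).comap h.nat.hom).map L.subtype
  have mK : ∀ g, g ∈ K ↔ g ∈ L ∧ ∃ t, upT t = ρ g := fun g =>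
    ⟨by rintro ⟨g, hg, rfl⟩; exact ⟨g.2, hg⟩, fun ⟨a, b⟩ => ⟨⟨g, a⟩, b, rfl⟩⟩
  have n : x ∈ 𝐍(K) := mem_normalizer_of_cj_le (by
    rintro _ ⟨g, hg, rfl⟩
    obtain ⟨a, t, b⟩ := (mK g).1 hg
    refine (mK _).2 ⟨mul_mem (mul_mem hx a) (L.inv_mem hx), ρ x 0 0 ^ 2 * t, ?_⟩
    change _ = ρ (x * g * x⁻¹)
    rw [h.nat.ρmul _ (mul_mem hx a) _ (L.inv_mem hx), h.nat.ρmul _ hx _ a, h.nat.ρinv hx, ← b,
      PLocal.conj_upT_of_eq_zero (by rw [e]; rfl)])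
  obtain ⟨m, hm, k, hk, rfl⟩ := (h.syl.mono (fun b hb => (mK b).2 ⟨h.BL hb,
    let ⟨t, e⟩ := h.nat.up b hb; ⟨t, e.symm⟩⟩) fun g hg => ((mK g).1 hg).1).frattini' n
  obtain ⟨a, t, b⟩ := (mK k).1 hk
  have mL : m ∈ L := (L.mul_mem_cancel_right a).1 hx
  refine ⟨m, ⟨mL, hm⟩, ?_⟩
  rw [h.nat.ρmul _ mL _ a, ← b] at e
  have := congrArg (fun y : SL(2, F) => y 0 0) e
  simpa [Matrix.mul_apply, PLocal.upT_val] using this

namespace SN
variable (h : SN G A T S L Q F ρ ψ)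
include h

theorem TW : T ≤ 𝐍(𝐖) := h.TM.trans (M_norm G T)

variable [Finite F]

theorem W_le_S : 𝐖 ≤ S := by_contra fun c => by
  have WT := W_le G T
  have nS : S ≤ 𝐍(𝐖 ⊓ 𝐍(S)) := le_normalizer_inf (h.le.trans h.TW)
    (le_normalizer.trans le_normalizer)
  have lt : S < S ⊔ (𝐖 ⊓ 𝐍(S)) := by
    obtain ⟨y, hy, y0⟩ := SetLike.exists_of_lt (lt_inf_normalizer (h.pT.to_le (sup_le h.le WT))
      (left_lt_sup.2 c))
    obtain ⟨s, hs, w, hw, rfl⟩ := (mem_sup_of_le_normalizer' (h.le.trans h.TW)).1 hy.1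
    exact left_lt_sup.2 fun e => y0 (mul_mem hs (e ⟨hw, (mul_mem_cancel_left (le_normalizer hs)).1 hy.2⟩))
  have nB : S ⊔ (𝐖 ⊓ 𝐍(S)) ≤ 𝐍(𝐁₀) := (sup_le le_normalizer inf_le_right).trans (norm_baumann 2 S)
  have NT : S ⊔ (𝐖 ⊓ 𝐍(S)) ≤ T := sup_le h.le (inf_le_left.trans WT)
  obtain ⟨n, hn, k⟩ := h.partner (h.nb_of_lt ((baumann_le 2 S).trans le_sup_left) nB NT
    (card_lt_card_of_lt lt))
  have h' := h.nd.cj (nB hn)
  have e : 𝐁₀ ≤ (𝐖 ⊓ 𝐁₀) ⊔ Q := by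
    refine (h.nd.sup_eq h' k).ge.trans (sup_le ?_ le_sup_right)
    obtain ⟨a, ha, s, hs, rfl⟩ := (mem_sup_of_le_normalizer nS).1 (sup_comm S _ ▸ hn)
    have l : cj[s] (UU L Q) ≤ Q := h.nd.le_Q (cj_le_of_mem_normalizer (norm_baumann 2 S
      (le_normalizer hs)) h.nd.UB) (h.com s hs)
    rw [← cj_UU, cj_mul]
    rintro _ ⟨u, hu, rfl⟩
    have uB := h.nd.le (l hu)
    change a * u * a⁻¹ ∈ _
    rw [show a * u * a⁻¹ = a * (u * a⁻¹ * u⁻¹) * u by group]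
    refine mul_mem (mem_sup_left (mem_inf.2 ⟨mul_mem ha.1 (conj_mem_of_mem_normalizer (h.TW (h.BT uB))
      (inv_mem ha.1)), ?_⟩)) (mem_sup_right (l hu))
    rw [show a * (u * a⁻¹ * u⁻¹) = a * u * a⁻¹ * u⁻¹ by group]
    exact mul_mem (conj_mem_of_mem_normalizer (norm_baumann 2 S ha.2) uB) (inv_mem uB)
  have e' := cj_mono n e
  rw [cj_sup, cj_eq_self (nB hn), cj_eq_self (le_normalizer_inf (NT.trans h.TW) nB hn)] at e'
  rcases h.nd.ea_le h' k inf_le_right (isElemAb_of_le (W_ea G T) inf_le_left) with l | l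
  · exact h.nd.ne (e.trans (sup_le l le_rfl))
  · exact h'.ne (e'.trans (sup_le l le_rfl))

theorem W_le_Om : 𝐖 ≤ 𝛀[2](𝐉[2](S)) := by
  refine le_omegaJ (W_ea G T) h.W_le_S (le_centralizer_comm.1 (PLocal.thompson_le_iff.2 fun E hE => ?_))
  refine h.nf E (hE.1.trans h.le) (.of_isEA Nat.prime_two hE.2.1) ?_
  have := maxAb_off hE h.W_le_S (W_ea G T)
  rw [← BG.card_inf_mul_relIndex 𝐂(E) 𝐖, ← BG.card_inf_mul_relIndex 𝐂(𝐖) E, inf_comm E, inf_comm 𝐖,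
    mul_assoc, mul_comm (Subgroup.relIndex _ E)] at this
  exact Nat.le_of_mul_le_mul_left (Nat.le_of_mul_le_mul_left this Nat.card_pos) Nat.card_pos

theorem WC : 𝐖 ≤ 𝐂(𝐁₀) := le_centralizer_comm.1 (inf_le_right.trans (centralizer_anti h.W_le_Om))

theorem WB : 𝐖 ≤ 𝐁₀ := h.W_le_Om.trans ((omegaOneCenter_le 2 _).trans (thompson_le_baumann 2 S))

theorem WV : 𝐖 ≤ 𝛀[2](Q) := le_omegaOneCenter (W_ea G T)
  (h.nd.le_Q h.WB (h.WC.trans (centralizer_anti h.nd.UB))) (h.WC.trans (centralizer_anti h.nd.le))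

theorem normB_le : G ⊓ 𝐍(𝐁₀) ≤ 𝐌 := fun g hg => by
  obtain ⟨m, hm, c⟩ := gd_of_not_bad h.not_bad_B hg.1 hg.2
  exact ⟨hg.1, (mul_mem_cancel_left (inv_mem (M_norm G T hm))).1
    (centralizer_le_normalizer_of_le h.WB c)⟩

theorem card_two : Nat.card F = 2 := by_contra fun c => by
  have n := h.nd.nat
  obtain ⟨l, hl⟩ := IsCyclic.exists_generator (α := Fˣ)
  obtain ⟨m, hm, e⟩ := h.nd.exists_tor l
  have mM := h.normB_le ⟨h.LG hm.1, hm.2⟩
  have mW := M_norm G T mM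
  have f1 : ∀ v ∈ 𝐖, ψ v 1 = 0 := fun v hv => (n.fix v (h.WV hv)).1 (h.WC hv)
  have f2 : ∀ (j : ℕ), ∀ v ∈ 𝐖, ψ (m ^ j * v * (m ^ j)⁻¹) 0 = l ^ j * ψ v 0 := fun j v hv => by
    induction j with
    | zero => simp
    | succ j ih =>
      have a := conj_mem_of_mem_normalizer (pow_mem mW j) hv
      rw [show m ^ (j + 1) * v * (m ^ (j + 1))⁻¹ = m * (m ^ j * v * (m ^ j)⁻¹) * m⁻¹ by group,
        n.equiv m hm.1 _ (h.WV a), SL2_smul_apply, f1 _ a, ih, e]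
      ring
  obtain ⟨k, o⟩ := exists_pow_coprime (p := 2) (isOfFinOrder_of_finite m)
  have o : Odd (orderOf (m ^ 2 ^ k)) := Nat.coprime_two_right.1 o
  have g : l ∈ zpowers (l ^ 2 ^ k) := by
    refine mem_zpowers_pow_iff.2 (Nat.Coprime.pow_left _ (Nat.coprime_two_left.2 ?_))
    have := Fintype.ofFinite F
    have := CharTwo.of_one_ne_zero_of_two_eq_zero one_ne_zero h.nd.two
    have := FiniteField.even_card_iff_char_two.1 (ringChar.eq F 2)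
    have p := Fintype.card_pos (α := F)
    rw [orderOf_eq_card_of_forall_mem_zpowers hl, Nat.card_units, Nat.card_eq_fintype_card, Nat.odd_iff]
    omega
  have f3 : ∀ (j : ℕ), ∀ v ∈ 𝐖, ψ ((m ^ 2 ^ k) ^ j * v * ((m ^ 2 ^ k) ^ j)⁻¹) 0 =
      ((l ^ 2 ^ k) ^ j : Fˣ) * ψ v 0 := fun j v hv => by
    rw [← pow_mul, f2 _ v hv, ← pow_mul, Units.val_pow_eq_pow_val]
  have xL := pow_mem hm.1 (2 ^ k)
  have xM := pow_mem mM (2 ^ k)
  generalize m ^ 2 ^ k = x at o f3 xL xM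
  have hl' : ∀ y, y ∈ zpowers (l ^ 2 ^ k) := fun y => zpowers_le.2 g (hl y)
  generalize l ^ 2 ^ k = μ at f3 hl'
  have xW := M_norm G T xM
  have μ1 : (μ : F) ≠ 1 := fun e => c (by
    have : Nat.card Fˣ = 1 := by
      rw [← orderOf_eq_card_of_forall_mem_zpowers hl', Units.val_eq_one.1 e, orderOf_one]
    rw [Nat.card_units] at this
    omega)
  have f4 : ∀ r ∈ ⁅𝐖, zpowers x⁆, ψ r 0 = 0 → r = 1 := fun r hr e => by
    have a := cm_le xW hr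
    refine cm_fix (W_abelem G T) xW o hr (BG.cent_le_cent1 xL ((n.ker r (h.WV a)).1 ?_))
    ext i; fin_cases i
    · exact e
    · exact f1 r a
  have f5 : ∀ v ∈ 𝐖, ψ (x * v * x⁻¹) 0 = μ * ψ v 0 := fun v hv => by simpa using f3 1 v hv
  refine h.lemS x xM o ?_ fun a ha b hb a1 b1 => ?_
  · obtain ⟨z, hz, z0⟩ := SetLike.not_le_iff_exists.1 h.not_cent
    have zW := Z_le_W G T hz
    have z1 : ψ z 0 ≠ 0 := fun e => z0 ((n.ker z (h.WV zW)).1 (by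
      ext i; fin_cases i
      · exact e
      · exact f1 z zW))
    have r := cm_mem (t := x) zW
    have r1 : ψ ⁅z, x⁆ 0 ≠ 0 := by
      rw [commutatorElement_def, mul_assoc, mul_assoc, ← mul_assoc x, n.ψmul _ (h.WV zW) _
        (h.WV (conj_mem_of_mem_normalizer xW (inv_mem zW))), Pi.add_apply, f5 _ (inv_mem zW),
        n.ψinv (h.WV zW), Pi.neg_apply, show ψ z 0 + μ * -ψ z 0 = (1 - μ) * ψ z 0 by ring]
      exact mul_ne_zero (sub_ne_zero.2 μ1.symm) z1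
    have r0 : ⁅z, x⁆ ≠ 1 := fun e => r1 (by rw [e, n.ψone]; rfl)
    refine three_le r (conj_mem_of_mem_normalizer (cm_norm _ x) r) r0 (by simpa using r0) fun e => ?_
    have := f5 _ (cm_le xW r)
    rw [← e] at this
    exact μ1 (mul_right_cancel₀ r1 (this.symm.trans (one_mul _).symm))
  · have a0 := mt (f4 a ha) a1
    have b0 := mt (f4 b hb) b1
    obtain ⟨j, e⟩ := (mem_powers_iff_mem_zpowers.2 (hl' (Units.mk0 _ (div_ne_zero b0 a0))))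
    refine ⟨j, mul_inv_eq_one.1 (f4 _ (mul_mem (conj_mem_of_mem_normalizer (pow_mem (cm_norm _ x) j) ha)
      (inv_mem hb)) ?_)⟩
    have a' := cm_le xW ha
    have b' := cm_le xW hb
    rw [n.ψmul _ (h.WV (conj_mem_of_mem_normalizer (pow_mem xW j) a')) _ (h.WV (inv_mem b')),
      Pi.add_apply, f3 j a a', n.ψinv (h.WV b'), Pi.neg_apply]
    simp only at e
    rw [e, Units.val_mk0, div_mul_cancel₀ _ a0, add_neg_cancel]

end SN

end CF.Fpf
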