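import Cfsg.Agent.Fpf.P2

/-! The field with two elements leads to the dihedral configuration -/

set_option autoImplicit false

namespace CF.Fpf
open Cfsg Subgroup CF.Loc CF.FF
open CF.PLocal (maxAb thompson_le le_thompson)
open scoped commutatorElement MatrixGroups

universe u
variable {Γ : Type u} [Group Γ] {G A T S B L Q L' Q' L₃ Q₃ E N Y : Subgroup Γ}
  {g m n x z u z' u' z₃ u₃ b y : Γ} {F : Type} [Field F] {ρ : Γ → SL(2, F)} {ψ : Γ → Fin 2 → F}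

local notation "𝐌" => MM G T
local notation "𝐙" => Cfsg.omegaOneCenter 2 T
local notation "𝐁₀" => Cfsg.baumannSubgroupOf 2 S

variable [Finite Γ]

/-- a bad block over the field with two elements -/
structure Nz (G A T S : Subgroup Γ) (F : Type) [Field F] (L Q : Subgroup Γ) (z u : Γ) : Prop
    extends Tw F 𝐁[2](S) L Q z u where
  s : Sel G A T S
  LG : L ≤ G
  bad : ∀ Y, 𝛀[2](T) ≤ Y → L ≤ 𝐍(Y) → Bad G (MM G T) Y

theorem Sel.wdc (s : Sel G A T S) (a : Y ≤ 𝐁₀) (b : 𝐙 ≤ Y) (d : Bad G 𝐌 Y) (p : IsPGroup 2 N)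
    (l0 : N ≤ G ⊓ 𝐍(Y)) (hg : g ∈ G ⊓ 𝐍(Y)) (l1 : cj[g] 𝐁₀ ≤ N) : 𝐁[2](N) = cj[g] 𝐁₀ := by
  have l := cj_le_of_mem (inv_mem hg) l0
  have := (s.wd (a.trans s.BT) b d (isPGroup_cj g⁻¹ p) (l.trans inf_le_left) (cj_le_iff.1 l1)
    (a.trans (cj_le_iff.1 l1)) (l.trans inf_le_right)).1
  rw [← this, cj_baumann, cj_cj_inv]

namespace Nz
variable (h : Nz G A T S F L Q z u)
include h

theorem ZC (hX : E ≤ 𝐁₀) : 𝐙 ≤ 𝐂(E) :=
  (omegaOneCenter_le_centralizer 2 T).trans (centralizer_anti (hX.trans h.s.BT))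

theorem ZQ : 𝐙 ≤ Q := h.d.le_Q h.s.ZB (h.ZC h.d.UB)

protected theorem cj (hn : n ∈ T ⊓ 𝐍(𝐁₀)) :
    Nz G A T S F (cj[n] L) (cj[n] Q) (n * z * n⁻¹) (n * u * n⁻¹) := by
  refine ⟨h.toTw.cj hn.2, h.s, cj_le_of_mem (h.s.syl.le hn.1) h.LG, fun Y a b => ?_⟩
  refine (h.bad (cj[n⁻¹] Y) ?_ ?_).of_cj (M_le G T) (inv_mem (h.s.TM hn.1))
  · rw [← cj_le_iff, cj_eq_self (normalizer_le_normalizer_omegaOneCenter 2 T (le_normalizer hn.1))]
    exact a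
  · rwa [← cj_normalizer, ← cj_le_iff]

theorem commZ : ⁅𝐙, 𝐁₀⁆ ≤ zpowers z :=
  (commutator_eq_bot_iff_le_centralizer'.2 (le_centralizer_comm.1 (h.ZC le_rfl))).le.trans bot_le

theorem nzp (hX : E ≤ 𝐁₀) : E ≤ 𝐍(zpowers z) :=
  hX.trans ((le_centralizer_comm.1 (zpowers_le.2 h.zB)).trans (centralizer_le_normalizer _))

theorem nZ : 𝐁₀ ≤ 𝐍(𝐙) := (le_centralizer_comm.1 (h.ZC le_rfl)).trans (centralizer_le_normalizer _)

/-- a block with the same involution inside the core has the same module -/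
theorem fx (h' : Tw F 𝐁₀ L' Q' z' u') (c : ¬ UU L' Q' ≤ Q) (k : Tw F 𝐁₀ L₃ Q₃ z u₃) (l : L₃ ≤ G)
    (m : UU L₃ Q₃ ≤ Q) : u₃ = u ∨ u₃ = u * z := by
  by_contra ne
  obtain ⟨v, hv, d, hd, e⟩ := h.dec u₃ (m k.uU)
  have d1 : d ≠ 1 := fun q => ne (h.out (by rwa [e, q, mul_one]) k.u1 k.uz)
  have hQ : Q ≤ Q₃ := fun b hb => by
    refine k.memQ (h.d.le hb) (mul_inv_eq_iff_eq_mul.1 ((k.act (h.d.le hb)).resolve_right fun q => ?_))
    have := mul_mem (inv_mem hd) (conj_mem_of_mem_normalizer (h.nC (h.d.QL hb)) hd)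
    rw [e, ← mul_assoc, h.d.UC hv b hb, mul_assoc v, mul_assoc v, mul_assoc v, mul_right_inj] at q
    rw [q, inv_mul_cancel_left] at this
    exact h.z1 (h.UR z h.zU this.2)
  have eQ : Q = Q₃ := eq_of_le_of_card_le hQ (by
    have h1 := h.d.card_B
    have h2 : 0 < Nat.card F := Nat.pos_of_ne_zero fun q => by
      rw [q, zero_mul] at h1; exact Nat.card_pos.ne' h1
    exact (Nat.eq_of_mul_eq_mul_left h2 (k.d.card_B.symm.trans h1)).le)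
  subst eQ
  have du : d ∈ 𝐂(UU L' Q') := h'.d.QC (h.CQ h' c hd)
  have uB := h'.d.UB h'.uU
  have key : ∀ w, u' * w = w * u' → v ≠ w := fun w q r => h.uQ h' c (k.memQ uB (by
    rw [e, r, ← mul_assoc, q, mul_assoc, du u' h'.uU, mul_assoc]))
  have hy : u * d ∈ UU L₃ Q := by
    rcases h.out hv (key 1 (by simp)) (key z (h.zc uB)) with q | q
    · rw [← q, ← e]; exact k.uU
    · have := mul_mem k.uU k.zU
      rwa [e, q, mul_assoc, h.zc (h.d.le hd.1), mul_assoc, ← mul_assoc z, h.zz, one_mul] at this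
  have y1 : u * d ≠ 1 := fun q => h.u1 (h.UR u h.uU (eq_inv_of_mul_eq_one_left q ▸ inv_mem hd.2))
  have dL : d ∈ 𝐂(L) := by
    refine h.d.cent_L hd.2 ?_
    rw [← h.d.sup_eq h'.d c, centralizer_sup]
    exact ⟨du, by simpa using mul_mem (inv_mem (h.d.UC h.uU)) (k.d.UC hy)⟩
  set E := UU L Q ⊔ UU L₃ Q ⊔ 𝐙
  have e1 : UU L Q ≤ E := le_sup_left.trans le_sup_left
  have e3 : UU L₃ Q ≤ E := le_sup_right.trans le_sup_left
  have hE : E ≤ Q := sup_le (sup_le h.d.UQ m) h.ZQ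
  have EB := hE.trans h.d.le
  have nB : 𝐁₀ ≤ 𝐍(E) := le_normalizer_sup (le_normalizer_sup (h.d.BL.trans h.d.nU)
    (k.d.BL.trans k.d.nU)) h.nZ
  have nL := h.d.norm_of e1 hE nB
  have nL3 := k.d.norm_of e3 hE nB
  have cE : ⁅E, 𝐁₀⁆ ≤ zpowers z := commutator_sup_left_le (h.nzp (sup_le h.d.UB k.d.UB)) (h.nzp h.s.ZB)
    (commutator_sup_left_le (h.nzp h.d.UB) (h.nzp k.d.UB) h.commB k.commB) h.commZ
  obtain ⟨x, hx, ex⟩ := h.tr u h.uU h.u1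
  obtain ⟨w, hw, ew⟩ := k.tr _ hy y1
  have cj1 : ∀ g ∈ 𝐍(E), ⁅E, cj[g] 𝐁₀⁆ ≤ zpowers (g * z * g⁻¹) ∧ g * z * g⁻¹ ∈ 𝐂(cj[g] 𝐁₀) := fun g hg => by
    have := cj_mono g cE
    rw [cj_commutator, cj_eq_self hg, cj_zpowers] at this
    exact ⟨this, cj_centralizer g 𝐁₀ ▸ conj_mem_cj g h.zB⟩
  obtain ⟨c1, c2⟩ := cj1 x (nL hx)
  obtain ⟨c3, c4⟩ := cj1 w (nL3 hw)
  rw [ex] at c1 c2
  rw [ew] at c3 c4
  have l1 : cj[x] 𝐁₀ ≤ L := cj_le_of_mem hx h.d.BL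
  have l3 : cj[w] 𝐁₀ ≤ L₃ := cj_le_of_mem hw k.d.BL
  have c5 : u * d ∈ 𝐂(cj[x] 𝐁₀) := mul_mem c2 (centralizer_anti l1 dL)
  set X := cj[x] 𝐁₀ ⊔ cj[w] 𝐁₀
  have hX : X ≤ G ⊓ 𝐍(E) := sup_le (l1.trans (le_inf h.LG nL)) (l3.trans (le_inf l nL3))
  have c6 : X ≤ 𝐂(zpowers (u * d)) := le_centralizer_comm.1 (zpowers_le.2 (by
    rw [centralizer_sup]; exact ⟨c5, c4⟩))
  have hD : zpowers u ⊔ zpowers (u * d) ≤ E := sup_le (zpowers_le.2 (e1 h.uU)) (zpowers_le.2 (e3 hy))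
  have pE : IsPGroup 2 E := h.d.pB.to_le EB
  have r1 : ⁅E, 𝐑[2](X)⁆ ≤ zpowers (u * d) := by
    have a1 := c1.trans (le_sup_left (b := zpowers (u * d)))
    have a3 := c3.trans (le_sup_right (a := zpowers u))
    have n := c6.trans (centralizer_le_normalizer _)
    refine commutator_pResidualOf_le (U := zpowers u ⊔ zpowers (u * d)) (fun v hv => ?_)
      (commutator_sup_right_le (le_normalizer_of_commutator_le hD a1)
        (le_normalizer_of_commutator_le hD a3) a1 a3)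
      (commutator_sup_right_le (le_sup_left.trans n) (le_sup_right.trans n)
        ((commutator_eq_bot_iff_le_centralizer'.2 ?_).le.trans bot_le)
        ((commutator_mono hD le_rfl).trans c3)) ?_ n
    · obtain ⟨i, hi⟩ := isPGroup_iff_forall.1 pE v (hD hv)
      exact ⟨i, hi ▸ one_mem _⟩
    · exact le_centralizer_comm.1 (sup_le (zpowers_le.2 c2) (zpowers_le.2 c5))
    · exact (hD.trans hE).trans ((le_centralizer_comm.1 (zpowers_le.2 (k.d.UC hy))).trans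
        (centralizer_le_normalizer _))
  have r2 : 𝐑[2](X) ≤ 𝐂(E) := by
    rw [← commutator_eq_bot_iff_le_centralizer', ← pResidualOf_pResidualOf]
    refine commutator_pResidualOf_eq_bot (pE.to_le (r1.trans (le_sup_right.trans hD))) ?_
    rw [commutator_eq_bot_iff_le_centralizer']
    exact (pResidualOf_le 2 X).trans (c6.trans (centralizer_anti r1))
  obtain ⟨S1, s1, l4⟩ := exists_isSyl_ge (isPGroup_cj x h.d.pB) (le_sup_left : _ ≤ X)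
  obtain ⟨t, ht, l5⟩ := s1.exists_cj_le (isPGroup_cj w h.d.pB) le_sup_right
  obtain ⟨r, hr, s, hs, e5⟩ := s1.exists_residual_mul _ (inv_mem ht)
  rw [inv_eq_iff_eq_inv.1 e5, mul_inv_rev, cj_mul, cj_le_iff, inv_inv, cj_eq_self_of_mem hs,
    ← cj_mul] at l5
  have bd := h.bad E le_sup_right nL
  have g1 : x ∈ G ⊓ 𝐍(E) := ⟨h.LG hx, nL hx⟩
  have g2 : r⁻¹ * w ∈ G ⊓ 𝐍(E) := mul_mem (inv_mem (hX (pResidualOf_le 2 X hr))) ⟨l hw, nL3 hw⟩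
  have e6 := (h.s.wdc EB le_sup_right bd s1.isPGroup (s1.le.trans hX) g1 l4).symm.trans
    (h.s.wdc EB le_sup_right bd s1.isPGroup (s1.le.trans hX) g2 l5)
  have e7 := h.fixz e1 cE (m := (r⁻¹ * w)⁻¹ * x) (by rw [← cj_eq_self_iff, cj_mul, e6, cj_inv_cj])
    (mul_mem (inv_mem g2) g1).2
  have e8 := conj_eq_of_mem_centralizer (inv_mem (r2 hr)) (e3 hy)
  refine d1 (mul_left_cancel (a := u) ?_)
  calc u * d = r⁻¹ * w * z * (r⁻¹ * w)⁻¹ := by rw [← e8, ← ew]; group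
    _ = _ := by rw [← e7, mul_one, ← ex]; group

/-- uniqueness of partners -/
theorem uniq (h' : Nz G A T S F L' Q' z' u') (c : ¬ UU L' Q' ≤ Q) (k : Tw F 𝐁₀ L₃ Q₃ z₃ u₃) (l : L₃ ≤ G)
    (m : ¬ UU L₃ Q₃ ≤ Q) : u₃ = u' ∨ u₃ = u' * z := by
  obtain rfl := h.zeq h'.toTw c
  obtain rfl := h.zeq k m
  exact h'.fx h.toTw (h.d.symm h'.d c) k l ((h.d.ea_le h'.d c k.d.UB k.d.ea).resolve_left m)

theorem Y_le : UU L Q ⊔ 𝐙 ≤ Q := sup_le h.d.UQ h.ZQ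

theorem Y_norm : L ≤ 𝐍(UU L Q ⊔ 𝐙) :=
  h.d.norm_of le_sup_left h.Y_le (le_normalizer_sup (h.d.BL.trans h.d.nU) h.nZ)

theorem baum (p : IsPGroup 2 N) (l0 : N ≤ G ⊓ 𝐍(UU L Q ⊔ 𝐙)) (l1 : 𝐁₀ ≤ N) : 𝐁[2](N) = 𝐁₀ := by
  have := h.s.wdc (h.Y_le.trans h.d.le) le_sup_right (h.bad _ le_sup_right h.Y_norm) p l0 (one_mem _)
    (by rwa [cj_one])
  rwa [cj_one] at this

theorem T_norm : T ⊓ 𝐍(UU L Q) ≤ G ⊓ 𝐍(UU L Q ⊔ 𝐙) :=
  le_inf (inf_le_left.trans h.s.syl.le) (le_normalizer_sup inf_le_right (inf_le_left.trans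
    (le_normalizer.trans (normalizer_le_normalizer_omegaOneCenter 2 T))))

theorem norm_S : 𝐍(T ⊓ 𝐍(UU L Q)) ≤ 𝐍(𝐁₀) :=
  h.baum (h.s.pT.to_le inf_le_left) h.T_norm (le_inf h.s.BT (h.d.BL.trans h.d.nU)) ▸ norm_baumann 2 _

theorem ns (h' : Tw F 𝐁₀ L' Q' z' u') (c : ¬ UU L' Q' ≤ Q) (hy : y ∈ T) (y1 : y * z = z * y)
    (y2 : y * u = u * y) : y * y ≠ z := fun e => by
  have YQ := h.Y_le
  have YL := h.Y_norm
  have QY : Q ≤ 𝐂(UU L Q ⊔ 𝐙) := by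
    rw [centralizer_sup]; exact le_inf h.d.QC (le_centralizer_comm.1 (h.ZC h.d.le))
  have yY : y ∈ 𝐂(UU L Q ⊔ 𝐙) := by
    rw [centralizer_sup]; exact ⟨h.cent y1 y2, le_centralizer_omegaOneCenter 2 T hy⟩
  have eY : IsElementaryAbelian 2 (UU L Q ⊔ 𝐙) := isElemAb_sup h.d.ea (isElemAb_omegaOneCenter 2 T)
    (le_centralizer_comm.1 (h.ZC h.d.UB))
  have cY : ⁅UU L Q ⊔ 𝐙, 𝐁₀⁆ ≤ zpowers z :=
    commutator_sup_left_le (h.nzp h.d.UB) (h.nzp h.s.ZB) h.commB h.commZ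
  have ba := @h.baum
  have UY : UU L Q ≤ UU L Q ⊔ 𝐙 := le_sup_left
  generalize UU L Q ⊔ 𝐙 = Y at YQ YL QY yY eY cY ba UY
  obtain ⟨S1, s1, l1⟩ := exists_isSyl_ge (h.s.pT.to_le inf_le_left) (inf_le_inf_right 𝐍(Y) h.s.syl.le)
  have l2 : 𝐁₀ ≤ S1 := (le_inf h.s.BT (h.d.BL.trans YL)).trans l1
  have e1 := ba _ s1.isPGroup s1.le l2
  have mx : maxAb 2 𝐁₀ = maxAb 2 S1 :=
    PLocal.maxAb_eq_of_thompson_le ((thompson_le_baumann 2 S1).trans e1.le) l2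
  have nC : G ⊓ 𝐍(Y) ≤ 𝐍(G ⊓ 𝐂(Y)) := le_normalizer_inf (inf_le_left.trans le_normalizer)
    (le_normalizer_centralizer inf_le_right)
  have s0 := s1.inf_of_le_normalizer (inf_le_inf_left G (centralizer_le_normalizer _)) nC
  rw [← inf_assoc, inf_eq_left.2 (s1.le.trans inf_le_left)] at s0
  have nT : S1 ≤ 𝐍(S1 ⊓ 𝐂(Y)) :=
    le_normalizer_inf le_normalizer (le_normalizer_centralizer (s1.le.trans inf_le_right))
  have QT : Q ≤ S1 ⊓ 𝐂(Y) := le_inf (h.d.le.trans l2) QY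
  have TQ : 𝐁₀ ⊓ (S1 ⊓ 𝐂(Y)) ≤ Q :=
    h.d.le_Q inf_le_left (inf_le_right.trans (inf_le_right.trans (centralizer_anti UY)))
  have yT : y ∈ S1 ⊓ 𝐂(Y) := ⟨l1 ⟨hy, centralizer_le_normalizer _ yY⟩, yY⟩
  have TS : S1 ⊓ 𝐂(Y) ≤ S1 := inf_le_left
  have TY : S1 ⊓ 𝐂(Y) ≤ 𝐂(Y) := inf_le_right
  generalize S1 ⊓ 𝐂(Y) = T0 at s0 nT QT TQ yT TS TY
  have c' := h.d.symm h'.d c
  have m0 : ∀ A0 ∈ maxAb 2 𝐁₀, A0 ≤ Q → A0 ≤ 𝐉[2](T0) := fun A0 a b =>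
    le_thompson (PLocal.mem_maxAb_of_le (mx ▸ a) (b.trans QT) TS)
  have m1 : ∀ {L Q z u}, Tw F 𝐁₀ L Q z u → ∀ A0 ∈ maxAb 2 𝐁₀, A0 ≤ Q → UU L Q ≤ A0 := fun k A0 a b =>
    PLocal.le_of_le_centralizer_maxAb a k.d.UB (k.d.UC.trans (centralizer_anti b)) k.d.ea.2
  have m2 : ∀ {L Q z u L' Q' z' u'}, Tw F 𝐁₀ L Q z u → Tw F 𝐁₀ L' Q' z' u' → ¬ UU L' Q' ≤ Q →
      ∀ A0 ∈ maxAb 2 𝐁₀, A0 ≤ Q' → (A0 ⊓ Q) ⊔ UU L Q ∈ maxAb 2 𝐁₀ := fun k k' c A0 a b =>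
    k.d.repl a (le_antisymm (sup_le a.1 k.d.le) ((k.d.sup_eq k'.d c).ge.trans
      (sup_le_sup_right (m1 k' A0 a b) _)))
  have m3 : ∀ {L Q z u L' Q' z' u'}, Tw F 𝐁₀ L Q z u → Tw F 𝐁₀ L' Q' z' u' → ¬ UU L' Q' ≤ Q →
      ∃ A0 ∈ maxAb 2 𝐁₀, A0 ≤ Q := fun k k' c => by
    obtain ⟨A0, a⟩ := PLocal.maxAb_nonempty 2 𝐁₀
    rcases k.d.ea_le k'.d c a.1 a.2.1 with b | b
    · exact ⟨A0, a, b⟩
    · exact ⟨_, m2 k k' c A0 a b, sup_le inf_le_right k.d.UQ⟩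
  obtain ⟨A1, a1, b1⟩ := m3 h.toTw h' c
  obtain ⟨A2, a2, b2⟩ := m3 h' h.toTw c'
  have JQ : 𝐉[2](T0) ≤ Q := (le_inf ((PLocal.thompson_le_thompson_of_le (mx ▸ a1) (b1.trans QT) TS).trans
    ((thompson_le_baumann 2 S1).trans e1.le)) (thompson_le 2 T0)).trans TQ
  have nU' : Q ≤ 𝐍(UU L' Q') := h.d.le.trans (h'.d.BL.trans h'.d.nU)
  have j1 : 𝐉[2](S1) ≤ UU L' Q' ⊔ 𝐉[2](T0) := PLocal.thompson_le_iff.2 fun A0 a => by
    rw [← mx] at a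
    rcases h.d.ea_le h'.d c a.1 a.2.1 with b | b
    · exact (m0 A0 a b).trans le_sup_right
    · refine (le_inf (a.1.trans (h.d.sup_eq h'.d c).ge) le_rfl).trans ?_
      rw [sup_inf_of_le_normalizer_left nU' (m1 h' A0 a b), inf_comm]
      exact sup_le_sup_left (le_sup_left.trans (m0 _ (m2 h.toTw h' c A0 a b)
        (sup_le inf_le_right h.d.UQ))) _
  have US : UU L' Q' ≤ S1 := h'.d.UB.trans l2
  have zY : zpowers z ≤ UU L Q := zpowers_le.2 h.zU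
  have j2 : ⁅T0, UU L' Q'⁆ ≤ 𝐉[2](T0) := by
    have a : ⁅T0, UU L' Q'⁆ ≤ 𝐉[2](S1) := (commutator_mono TS ((m1 h' A2 a2 b2).trans
      (le_thompson (mx ▸ a2)))).trans (commutator_le_right_of_le_normalizer
        (le_normalizer.trans (norm_thompson 2 S1)))
    refine (le_inf (a.trans j1) ((le_inf (a.trans ((thompson_le_baumann 2 S1).trans e1.le))
      (commutator_le_left_of_le_normalizer (US.trans nT))).trans TQ)).trans ?_
    rw [sup_inf_of_le_normalizer_right (JQ.trans nU') JQ]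
    refine sup_le (fun v hv => (m1 h.toTw A1 a1 b1).trans (m0 A1 a1 b1) ?_) le_rfl
    have zQ := h'.zU
    rcases h'.mU v hv.1 with rfl | rfl | rfl | rfl
    · exact one_mem _
    · exact h.zeq h' c ▸ h.zU
    · exact absurd hv.2 (h.uQ h' c)
    · rw [h.zeq h' c] at hv
      exact absurd ((Q.mul_mem_cancel_right (h.d.UQ h.zU)).1 hv.2) (h.uQ h' c)
  have j3 : ⁅𝐉[2](T0), UU L' Q'⁆ ≤ Y := (commutator_comm _ _).le.trans ((commutator_mono le_rfl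
    (JQ.trans h.d.le)).trans (h'.commB.trans ((h.zeq h' c ▸ zY).trans UY)))
  set N0 := G ⊓ 𝐍(Y) ⊓ 𝐍(T0)
  have SN : S1 ≤ N0 := le_inf s1.le nT
  have nY : N0 ≤ 𝐍(Y) := inf_le_left.trans inf_le_right
  have nJ : N0 ≤ 𝐍(𝐉[2](T0)) := inf_le_right.trans (norm_thompson 2 T0)
  have KN : ncl (UU L' Q') N0 ≤ N0 := ncl_le_of_le (US.trans SN)
  have k1 := (le_secCent_iff.1 (ncl_le (le_secCent_iff.2 ⟨US.trans (SN.trans nJ), j2⟩)
    (le_normalizer_secCent inf_le_right nJ) : ncl (UU L' Q') N0 ≤ _)).2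
  have k2 := (le_secCent_iff.1 (ncl_le (le_secCent_iff.2 ⟨US.trans (SN.trans nY), j3⟩)
    (le_normalizer_secCent nJ nY) : ncl (UU L' Q') N0 ≤ _)).2
  have k3 := commutator_pResidualOf_le (p := 2) (fun v hv => by
    obtain ⟨i, hi⟩ := isPGroup_iff_forall.1 h.d.pQ v (JQ hv)
    exact ⟨i, hi ▸ one_mem _⟩) k1 k2 (JQ.trans (QY.trans (centralizer_le_normalizer _))) (KN.trans nY)
  have k4 : ncl (UU L' Q') N0 ≤ centralizer {z} := by
    refine ((s1.mono SN inf_le_left).inf_of_le_normalizer KN (le_normalizer_ncl _ _)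
      ).pResidualOf_sup.ge.trans (sup_le (fun k hk => ?_) fun s hs => ?_) <;>
      rw [BG.mem_cent1, ← mul_inv_eq_iff_eq_mul]
    · have a := inv_mem (k3 (commutator_mem_commutator yT hk))
      rw [commutatorElement_inv] at a
      have b := TY yT _ a
      have d := eY.2 _ a
      generalize hw : ⁅k, y⁆ = w at b d
      have f : k * y * k⁻¹ = w * y := by rw [← hw, commutatorElement_def]; group
      calc k * z * k⁻¹ = k * y * k⁻¹ * (k * y * k⁻¹) := by rw [← e]; group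
        _ = w * (w * y) * y := by rw [f, mul_assoc w y, ← mul_assoc y, ← b, ← mul_assoc w]
        _ = z := by rw [← mul_assoc, ← pow_two, d, one_mul, e]
    · exact h.fixz UY cY (e1 ▸ norm_baumann 2 S1 (le_normalizer hs.1)) (s1.le hs.1).2
  obtain ⟨x, hx, ex⟩ := h.tr u h.uU h.u1
  have hx' : x ∈ G ⊓ 𝐍(Y) := ⟨h.LG hx, YL hx⟩
  obtain ⟨n, hn, d, hd, rfl⟩ := s0.frattini' (nC hx')
  have n0 : n ∈ N0 := ⟨by
    simpa using mul_mem hx' (inv_mem (inf_le_inf_left G (centralizer_le_normalizer _) hd)), hn⟩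
  have e2 : n * z * n⁻¹ = u := by
    calc _ = n * (d * z * d⁻¹) * n⁻¹ := by rw [conj_eq_of_mem_centralizer hd.2 (UY h.zU)]
      _ = _ := by rw [← ex]; group
  have e3 := BG.mem_cent1.1 (k4 (cj_le_ncl (inv_mem n0) (conj_mem_cj n⁻¹ h'.uU)))
  refine h.uQ h' c (h.memQ (h'.d.UB h'.uU) ?_)
  calc u' * u = n * (n⁻¹ * u' * n⁻¹⁻¹ * z) * n⁻¹ := by rw [← e2]; group
    _ = _ := by rw [e3, ← e2]; group

theorem dh (hg : g ∈ T ⊓ 𝐍(𝐁₀)) (c : ¬ UU (cj[g] L) (cj[g] Q) ≤ Q) : Dh T z u (g * u * g⁻¹) g := by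
  have h' := h.cj hg
  have e := h.zeq h'.toTw c
  refine ⟨h.s.BT (h.d.UB h.zU), h.s.BT (h.d.UB h.uU), hg.1, h.z1, h.zz, h.uu, h.zu,
    mul_inv_eq_iff_eq_mul.1 e, rfl, h.par h'.toTw c, fun s hs s1 s2 => ?_, fun t ht t1 a ea k => ?_,
    fun y hy y1 y2 => h.ns h'.toTw c hy y1 y2⟩
  · have nU := h.norm_of s1 s2
    have nB : s ∈ T ⊓ 𝐍(𝐁₀) := ⟨hs, h.norm_S (le_normalizer ⟨hs, nU⟩)⟩
    refine h.uniq h' c (h'.cj nB).toTw (h'.cj nB).LG fun l => c ?_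
    have nQ : cj[s] Q = Q := by
      rw [← h.d.cent_U, cj_inf, cj_centralizer, cj_eq_self nB.2, cj_eq_self nU]
    rwa [← cj_UU s, ← nQ, cj_le_cj_iff, nQ] at l
  · have ez : t * z * t⁻¹ = z := mul_inv_eq_iff_eq_mul.2 t1
    have l : T ⊓ 𝐍(UU L Q) ≤ cj[t] (T ⊓ 𝐍(UU L Q)) := fun s hs => by
      have nB := h.norm_S (le_normalizer hs)
      have s1 : s * z = z * s := mul_inv_eq_iff_eq_mul.1 (h.fixz le_rfl h.commB nB hs.2)
      refine mem_cj.2 (mem_inf.2 ⟨mul_mem (mul_mem (inv_mem ht) hs.1) ht, h.norm_of ?_ ?_⟩)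
      · calc _ = t⁻¹ * (s * z) * t := by rw [mul_assoc, t1]; group
          _ = t⁻¹ * (t * z) * t⁻¹ * s * t := by rw [s1, t1]; group
          _ = _ := by group
      · refine (k s hs.1 s1 (h.act' hs.2 s1)).imp (fun q => ?_) fun q => ?_
        · calc _ = t⁻¹ * (s * a * s⁻¹) * t := by rw [ea]; group
            _ = _ := by rw [q, ea]; group
        · calc _ = t⁻¹ * (s * a * s⁻¹) * t := by rw [ea]; group
            _ = _ := by rw [q, ea, mul_assoc, mul_assoc, ← t1]; group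
    have nB : t ∈ T ⊓ 𝐍(𝐁₀) := ⟨ht, h.norm_S (cj_eq_self_iff.1
      (eq_of_le_of_card_le l (card_cj _ _).le).symm)⟩
    have k3 := h.cj nB
    rw [← ea] at k3
    by_cases m : UU (cj[t] L) (cj[t] Q) ≤ Q
    · rw [ez] at k3
      exact (h.fx h'.toTw c k3.toTw k3.LG m).imp_right .inl
    · exact .inr (.inr (h.uniq h' c k3.toTw k3.LG m))

end Nz

theorem SN.false_two (h : SN G A T S L Q F ρ ψ) (c : Nat.card F = 2) : False := by
  obtain ⟨z, u, k⟩ := exists_tw h.nd c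
  by_cases e : S = T
  · subst e
    have n := h.nb_eq
    obtain ⟨g, hg, p⟩ := h.partner n
    exact k.false_of_inv h.fp h.BG le_sup_right n.norm n.nG hg p
  · obtain ⟨g, hg, p⟩ := h.partner (h.nb_lt e)
    exact h.dih _ _ _ _ (Nz.dh ⟨k, h.toSel, h.LG, fun _ => h.bad_of⟩ hg p)

end CF.Fpf
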