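import Cfsg.Agent.Fpf.Defs
import Cfsg.Agent.Ab2.Z

/-! Fixed-point-free operator groups: the conjugacy lemma in the minimal counterexample -/

set_option autoImplicit false

namespace CF.Fpf
open Subgroup CF.BG CF.Ab2
open scoped commutatorElement Pointwise

universe u
variable {Γ : Type u} [Group Γ] {G A E U K : Subgroup Γ} {q : ℕ} {g : Γ}

/-- the minimal counterexample -/
structure M0 (G A : Subgroup Γ) : Prop where
  fp : Fp G A
  ns : ¬ Sol G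
  simple : ∀ N, N ⊴ G → N = ⊥ ∨ N = G
  sol : ∀ H, H ≤ G → H ≠ G → A ≤ 𝐍 H → Sol H

/-- `E` meets every coset `G a` -/
def Cv (G A E : Subgroup Γ) : Prop := ∀ a ∈ A, ∃ g ∈ G, g * a ∈ E

theorem Cv.mono {E' : Subgroup Γ} (c : Cv G A E) (l : E ≤ E') : Cv G A E' := fun a ha =>
  let ⟨g, hg, e⟩ := c a ha; ⟨g, hg, l e⟩

theorem Cv.cj (c : Cv G A E) (n : A ≤ 𝐍 G) (hg : g ∈ G) : Cv G (cj g A) E := by
  rintro _ ⟨a, ha, rfl⟩
  obtain ⟨x, hx, e⟩ := c a ha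
  refine ⟨x * (a * g * a⁻¹) * g⁻¹, mul_mem (mul_mem hx (conj_mem_of_norm (n ha) hg)) (inv_mem hg), ?_⟩
  have : x * (a * g * a⁻¹) * g⁻¹ * (MulAut.conj g).toMonoidHom a = x * a := by simp [mul_assoc]
  rwa [this]

variable [Finite Γ]

namespace M0
variable (h : M0 G A)
include h

protected theorem cj (hg : g ∈ G) : M0 G (cj g A) := by
  refine ⟨h.fp.cj_right (le_norm_self G hg), h.ns, h.simple, fun H l ne n => ?_⟩
  have s := h.sol (cj g⁻¹ H) (cj_le_of_mem (inv_mem hg) l) (fun e => ne (by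
    have := congrArg (cj g) e
    rwa [cj_cj, mul_inv_cancel, cj_one, cj_of_mem hg] at this)) (by rwa [← cj_norm, ← cj_le_iff])
  exact (sol_map_iff (conj_inj _)).1 s

theorem loc (hg : g ∈ G) (n : cj g A ≤ 𝐍 U) (ne : G ⊓ 𝐍 U ≠ G) (c : Cv G A E) (e : E ≤ 𝐍 U) :
    ∃ x ∈ G, cj x A ≤ E := by
  have k := h.cj hg
  have m : cj g A ≤ 𝐍 (G ⊓ 𝐍 U) := norm_inf k.fp.norm (n.trans (norm_le_norm_norm U))
  obtain ⟨x, hx, l⟩ := k.fp.conj_le (D := E) inf_le_left m (k.sol _ inf_le_left ne m) fun a ha => by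
    obtain ⟨y, hy, f⟩ := c.cj h.fp.norm hg a ha
    exact ⟨y, ⟨hy, by simpa using mul_mem (e f) (inv_mem (n ha))⟩, f⟩
  rw [cj_cj] at l
  exact ⟨_, mul_mem hx.1 hg, l⟩

omit [Finite Γ] in
theorem normL : G ⊔ A ≤ 𝐍 (G ⊔ 𝐎 {q} A) := by
  refine sup_le (norm_of_le le_sup_left) (norm_sup h.fp.norm (O_normal _ A).norm)

theorem prop (nil : Nil A) (nc : ¬ 𝐎 {q} A ≤ 𝐂 G) (k : PiGrp {q} U) (l : U ≤ G ⊔ 𝐎 {q} A)
    (l' : 𝐎 {q} A ≤ G ⊔ U) (hg : g ∈ G) (n : cj g A ≤ 𝐍 U) : G ⊓ 𝐍 U ≠ G := fun e => by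
  have gU : G ≤ 𝐍 U := e.ge.trans inf_le_right
  have n : A ≤ 𝐍 U := by
    have := cj_le_iff.1 n
    rwa [cj_of_mem (inv_mem (gU hg))] at this
  have oA : 𝐎 {q} A ≤ A := O_le _ A
  have uG : U ≤ 𝐍 G := l.trans (sup_le (le_norm_self G) (oA.trans h.fp.norm))
  have i : G ⊓ U = ⊥ := (h.simple _ (normalIn_inf_left gU)).resolve_right fun e' =>
    h.ns (e' ▸ (k.inf_right (H := G)).sol)
  have bU : 𝐎 {q}ᶜ A ≤ 𝐂 U := fun b hb => mem_cent.2 fun x hx => by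
    have bA := O_le _ A hb
    have : b * x * b⁻¹ * x⁻¹ = 1 := by
      refine eq_one_of_mem_bot i (mem_inf.2 ⟨?_, mul_mem (conj_mem_of_norm (n bA) hx) (inv_mem hx)⟩)
      obtain ⟨y, hy, a, ha, rfl⟩ := (mem_sup_norm' (oA.trans h.fp.norm)).1 (l hx)
      have c := mem_cent.1 (O_compl_cent_O {q} A hb) a ha
      have : b * (y * a) * b⁻¹ * (y * a)⁻¹ = b * y * b⁻¹ * y⁻¹ := by
        rw [show b * (y * a) * b⁻¹ = b * y * b⁻¹ * (b * a) * b⁻¹ by group, ← c]; group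
      rw [this]
      exact G.mul_mem (conj_mem_of_norm (h.fp.norm bA) hy) (G.inv_mem hy)
    rw [mul_inv_eq_one, mul_inv_eq_iff_eq_mul] at this
    exact this.symm
  have kV : PiGrp {q} (G ⊓ (U ⊔ 𝐎 {q} A)) :=
    (k.sup (O_pi _ A) (.inr (oA.trans n))).inf_right
  have v := (h.fp.mono inf_le_left (norm_inf h.fp.norm
    (norm_sup n (O_normal {q} A).norm))).cent_O kV
  rw [inf_eq_left.2 (inf_le_right.trans (sup_le (cent_symm bU) (O_cent_O_compl _ A)))] at v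
  refine nc fun a ha => ?_
  obtain ⟨y, hy, x, hx, rfl⟩ := (mem_sup_norm' uG).1 (l' ha)
  have : y = 1 := eq_one_of_mem_bot v ⟨hy, by
    simpa using mul_mem (mem_sup_right ha : _ ∈ U ⊔ 𝐎 {q} A) (inv_mem (mem_sup_left hx))⟩
  rw [this, one_mul]
  exact cent_symm (cent_of_inf_eq_bot gU uG i) hx

theorem frat (c : Cv G A E) (s : Syl q U ((G ⊔ 𝐎 {q} A) ⊓ E)) :
    𝐎 {q} A ≤ G ⊔ U ∧ Cv G A (E ⊓ 𝐍 U) := by
  have oG : 𝐎 {q} A ≤ 𝐍 G := (O_le _ A).trans h.fp.norm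
  have lG : G ⊔ 𝐎 {q} A ≤ 𝐍 G := sup_le (le_norm_self G) oG
  have uG : U ≤ 𝐍 (G ⊓ E) := norm_inf ((s.le.trans inf_le_left).trans lG)
    (norm_of_le (s.le.trans inf_le_right))
  have e : (G ⊔ 𝐎 {q} A) ⊓ E ≤ (G ⊓ E) ⊔ U := by
    have a : PiNat {q}ᶜ (((G ⊓ E) ⊔ U).relIndex ((G ⊔ 𝐎 {q} A) ⊓ E)) := s.idx_of_le le_sup_right
    have b : PiNat {q} (((G ⊓ E) ⊔ U).relIndex ((G ⊔ 𝐎 {q} A) ⊓ E)) := by
      refine PiNat.dvd ?_ (relIndex_dvd_left _ le_sup_left)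
      have e1 : G ⊓ E = G ⊓ ((G ⊔ 𝐎 {q} A) ⊓ E) := by
        rw [← inf_assoc, inf_eq_left.2 (le_sup_left : G ≤ G ⊔ 𝐎 {q} A)]
      rw [e1, inf_relIndex_right]
      refine PiNat.dvd ?_ (relIndex_dvd_of_norm inf_le_left lG)
      rw [relIndex_sup_norm' (.inl oG)]
      exact (O_pi _ A).relIndex G
    exact relIndex_eq_one.mp (b.eq_one a)
  refine ⟨fun a ha => ?_, fun a ha => ?_⟩
  · obtain ⟨x, hx, f⟩ := c a (O_le _ A ha)
    have := sup_le_sup_right inf_le_left U (e ⟨mul_mem (mem_sup_left hx) (mem_sup_right ha), f⟩)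
    simpa using mul_mem (mem_sup_left (inv_mem hx) : _ ∈ G ⊔ U) this
  · obtain ⟨x, hx, f⟩ := c a ha
    have s' := s.cj_of_norm (g := x * a) (norm_inf inf_le_left inf_le_right (mem_inf.2
      ⟨h.normL (mul_mem (mem_sup_left hx) (mem_sup_right ha)), le_norm_self E f⟩))
    obtain ⟨m, hm, e'⟩ := s.syl_conj s'
    obtain ⟨y, hy, w, hw, rfl⟩ := (mem_sup_norm' uG).1 (e hm)
    rw [← cj_cj y, cj_of_mem hw] at e'
    refine ⟨y⁻¹ * x, mul_mem (inv_mem hy.1) hx, ?_, mem_norm_of_cj_le ?_⟩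
    · rw [mul_assoc]; exact E.mul_mem (E.inv_mem hy.2) f
    · rw [mul_assoc, ← cj_cj, e', cj_cj, inv_mul_cancel, cj_one]

theorem exists_P (nil : Nil A) (nc : ¬ 𝐎 {q} A ≤ 𝐂 G) :
    ∃ P, Syl q P (G ⊔ 𝐎 {q} A) ∧ A ≤ 𝐍 P ∧ 𝐎 {q} A ≤ P := by
  obtain ⟨P, l, ⟨h1, h2, h3⟩, hm⟩ := exists_maximal
    (P := fun Q => Q ≤ G ⊔ 𝐎 {q} A ∧ PiGrp {q} Q ∧ A ≤ 𝐍 Q) ⟨le_sup_right, O_pi _ A, (O_normal _ A).norm⟩
  refine ⟨P, syl_of_syl_norm h1 ?_, h3, l⟩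
  have m : A ≤ 𝐍 (G ⊓ 𝐍 P) := norm_inf h.fp.norm (h3.trans (norm_le_norm_norm P))
  obtain ⟨S, hS, nS⟩ := (h.fp.mono inf_le_left m).exists_hall (h.sol _ inf_le_left
    (h.prop nil nc h2 h1 (l.trans le_sup_right) (one_mem G) (by rwa [cj_one])) m) {q}
  have e := hm (P ⊔ S) ⟨sup_le h1 ((hS.le.trans inf_le_left).trans le_sup_left),
    h2.sup hS.pi (.inr (hS.le.trans inf_le_right)), norm_sup h3 nS⟩ le_sup_left
  have pG : P ≤ 𝐍 G := h1.trans (sup_le (le_norm_self G) ((O_le _ A).trans h.fp.norm))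
  have e2 : (G ⊔ 𝐎 {q} A) ⊓ 𝐍 P = (G ⊓ 𝐍 P) ⊔ P := by
    rw [← sup_inf_right (le_norm_self P) (.inr pG)]
    congr 1
    exact le_antisymm (sup_le_sup_left l G) (sup_le le_sup_left h1)
  rw [e2]
  refine ⟨le_sup_right, h2, ?_⟩
  rw [relIndex_sup_norm (.inl inf_le_right)]
  exact hS.idx_of_le (le_sup_right.trans e.le)

theorem key (nil : Nil A) (nc : ¬ 𝐎 {q} A ≤ 𝐂 G) (U : Subgroup Γ) : ∀ E, Cv G A E →
    Syl q U ((G ⊔ 𝐎 {q} A) ⊓ E) → ∃ x ∈ G, cj x A ≤ E := by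
  induction U using WellFoundedGT.induction with
  | ind U ih =>
  intro E c s
  obtain ⟨l', c'⟩ := h.frat c s
  have l := s.le.trans inf_le_left
  obtain ⟨V, hV, uV⟩ := exists_syl_le (le_inf l (le_norm_self U)) s.pi
  obtain ⟨g, hg, n⟩ : ∃ g ∈ G, cj g A ≤ 𝐍 U := by
    rcases uV.eq_or_lt with e | e
    · subst e
      obtain ⟨P, hP, nP, -⟩ := h.exists_P nil nc
      obtain ⟨m, hm, e⟩ := (syl_of_syl_norm l hV).syl_conj hP
      obtain ⟨y, hy, w, hw, rfl⟩ := (mem_sup_norm' (l.trans (sup_le (le_norm_self G)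
        ((O_le _ A).trans h.fp.norm)))).1 (sup_le le_sup_left l' hm)
      rw [← cj_cj y, cj_of_mem hw] at e
      refine ⟨y⁻¹, inv_mem hy, ?_⟩
      rwa [e, ← cj_norm, le_cj_iff] at nP
    · exact ih V e _ (c'.mono inf_le_right) hV
  obtain ⟨x, hx, f⟩ := h.loc hg n (h.prop nil nc s.pi l l' hg n) c' inf_le_right
  exact ⟨x, hx, f.trans inf_le_left⟩

theorem fp_nil (nil : Nil A) (c : Cv G A E) : ∃ x ∈ G, cj x A ≤ E := by
  obtain ⟨q, nc⟩ : ∃ q, ¬ 𝐎 {q} A ≤ 𝐂 G := by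
    by_contra! k
    have := h.fp.fpf
    rw [inf_eq_left.2 (cent_symm (nil.le_of_forall fun p _ _ => k p))] at this
    exact h.ns (this ▸ nil_bot.sol)
  obtain ⟨U, hU⟩ := exists_syl q ((G ⊔ 𝐎 {q} A) ⊓ E)
  exact h.key nil nc U E c hU

theorem even : 2 ∣ ♯G := by_contra fun c =>
  h.ns (od_sol ((piNat_compl_single Nat.prime_two).2 c))

end M0

theorem Fp.exists_K (h : Fp G A) : ∃ K, Hall (piOf (♯G))ᶜ K A ∧ A ≤ 𝐍 K := by
  refine ⟨A ⊓ ⨅ p ∈ piOf (♯G), 𝐎 {p}ᶜ A, ⟨inf_le_left, fun q hq hd k => ?_, fun q hq hd k => ?_⟩,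
    norm_inf (le_norm_self A) (le_norm_of_cj_le fun a ha => le_iInf₂ fun p hp => ?_)⟩
  · exact ((O_pi {q}ᶜ A).le (inf_le_right.trans (iInf₂_le q k))) q hq hd rfl
  · obtain ⟨P, hP⟩ := exists_syl q A
    refine hP.idx_of_le (le_inf hP.le (le_iInf₂ fun p hp => ?_)) q hq hd rfl
    exact (h.npc p (mem_piOf.1 hp).1 (mem_piOf.1 hp).2).le_O hP.le
      (hP.pi.of_single_ne fun e => k (e ▸ hp))
  · exact (cj_mono a (iInf₂_le p hp)).trans (cj_of_norm ((O_normal _ A).norm ha)).le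

/-- the conjugacy lemma in the minimal counterexample -/
theorem M0.fpp (h : M0 G A) (c : Cv G A E) (e : 𝐂 G ≤ E) : ∃ x ∈ G, cj x A ≤ E := by
  obtain ⟨K, hK, nK⟩ := h.fp.exists_K
  by_cases k : K ≤ 𝐂 G
  · obtain ⟨B, d, hB⟩ := hK.exists_compl nK
    have f : Fp G B := ⟨d.right_le.trans h.fp.norm, by
      rw [← h.fp.fpf, ← d.sup]
      exact le_antisymm (le_inf inf_le_left (le_cent_sup (inf_le_left.trans (cent_symm k))
        inf_le_right)) (inf_le_inf_left _ (cent_anti le_sup_right)),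
      fun p hp hd => (h.fp.npc p hp hd).mono d.right_le⟩
    have m : M0 G B := ⟨f, h.ns, h.simple, fun H l ne n => h.sol H l ne
      (d.sup ▸ sup_le (norm_of_cent (k.trans (cent_anti l))) n)⟩
    obtain ⟨x, hx, l⟩ := m.fp_nil (E := E) (nil_of_npc fun p hp hd => f.npc p hp
      (mem_piOf.1 (by simpa using hB.pi p hp hd)).2) fun a ha => c a (d.right_le ha)
    refine ⟨x, hx, ?_⟩
    rw [← d.sup, cj_sup]
    exact sup_le ((cj_le_of_norm (norm_cent (le_norm_self G) hx) k).trans e) l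
  have co : (♯K).Coprime (♯G) := piNat_compl_piOf.1 hK.pi
  have sK : Sol K := od_sol (hK.pi.to_compl_single' (mem_piOf.2 ⟨Nat.prime_two, h.even⟩))
  have eG : E ⊓ (G ⊔ A) ≤ 𝐍 G := inf_le_right.trans (sup_le (le_norm_self G) h.fp.norm)
  obtain ⟨g, hg, l⟩ := exists_cj_le_of_le_sup eG (fun a ha => by
    obtain ⟨x, hx, f⟩ := c a (hK.le ha)
    simpa using mul_mem (mem_sup_left (inv_mem hx) : _ ∈ G ⊔ (E ⊓ (G ⊔ A))) (mem_sup_right
      ⟨f, mul_mem (mem_sup_left hx) (mem_sup_right (hK.le ha))⟩)) co (.inl sK)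
  have lE := l.trans inf_le_left
  have n : cj g A ≤ 𝐍 (cj g K) := by rw [← cj_norm]; exact cj_mono g nK
  have kG : cj g K ≤ 𝐍 G := l.trans eG
  obtain ⟨x, hx, f⟩ := h.loc (E := E ⊓ 𝐍 (cj g K)) hg n (fun e' => k (by
    have gK : G ≤ 𝐍 (cj g K) := e'.ge.trans inf_le_right
    have := cent_of_inf_eq_bot kG gK (BG.inf_eq_bot_of_coprime (by rwa [card_cj]))
    rwa [cj_le_iff, cj_of_norm (norm_cent (le_norm_self G) (inv_mem hg))] at this)) (fun a ha => by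
    obtain ⟨y, hy, f⟩ := c a ha
    have l1 : cj (y * a) (cj g K) ≤ (E ⊓ G) ⊔ cj g K := by
      rw [← inf_sup_right lE (.inr kG)]
      refine le_inf (cj_le_of_mem f lE) ?_
      have e1 : y * a * g = y * (a * g * a⁻¹) * g⁻¹ * (g * a) := by group
      rw [cj_cj, e1, ← cj_cj _ (g * a), ← cj_cj g, cj_of_norm (nK ha)]
      exact cj_le_of_mem (mem_sup_left (mul_mem (mul_mem hy (conj_mem_of_norm (h.fp.norm ha) hg))
        (inv_mem hg))) le_sup_right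
    obtain ⟨w, hw, l2⟩ := exists_cj_le_of_le_sup (norm_inf (norm_of_le lE) kG) l1
      (by rw [card_cj, card_cj]; exact co.coprime_dvd_right (card_dvd inf_le_right))
      (.inl ((sK.map _).map _))
    rw [cj_cj] at l2
    refine ⟨w * y, mul_mem hw.2 hy, ?_⟩
    rw [mul_assoc]
    exact ⟨mul_mem hw.1 f, mem_norm_of_cj_le l2⟩) inf_le_right
  exact ⟨x, hx, f.trans inf_le_left⟩

end CF.Fpf
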