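import Cfsg.Agent.Fpf.Defs

/-! Fixed-point-free operator groups: odd elements transitive on their commutator space -/

set_option autoImplicit false

namespace CF.Fpf
open Subgroup CF.BG
open scoped commutatorElement

universe u
variable {Γ : Type u} [Group Γ] {A B D K U V W : Subgroup Γ} {x y t g : Γ}

/-- the commutator map with a normalizing element -/
def cmH (a : Abel W) (n : t ∈ 𝐍 W) : W →* Γ := MonoidHom.mk' (fun v => ⁅(v : Γ), t⁆) fun v w => by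
  have := a.mul_comm (conj_mem_of_norm n (inv_mem v.2))
    (mul_mem w.2 (conj_mem_of_norm n (inv_mem w.2)))
  simp only [commutatorElement_def, coe_mul]
  calc _ = v * (w * (t * (w : Γ)⁻¹ * t⁻¹) * (t * (v : Γ)⁻¹ * t⁻¹)) := by group
    _ = _ := by rw [← this]; group

theorem cm_mem {v : Γ} (hv : v ∈ W) : ⁅v, t⁆ ∈ ⁅W, zpowers t⁆ :=
  commutator_mem_commutator hv (mem_zpowers t)

theorem cm_le (n : t ∈ 𝐍 W) : ⁅W, zpowers t⁆ ≤ W := comm_le_left (zpowers_le.2 n)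

theorem cm_norm (W : Subgroup Γ) (t : Γ) : t ∈ 𝐍 ⁅W, zpowers t⁆ :=
  norm_comm_right W _ (mem_zpowers t)

theorem cj_cm (n : g ∈ 𝐍 W) (t : Γ) : cj g ⁅W, zpowers t⁆ = ⁅W, zpowers (g * t * g⁻¹)⁆ := by
  rw [cj_comm, cj_of_norm n, cj_zpowers]

theorem cm_le_iff (n : t ∈ 𝐍 V) : ⁅W, zpowers t⁆ ≤ V ↔ ∀ w ∈ W, ⁅w, t⁆ ∈ V := by
  refine ⟨fun h w hw => h (cm_mem hw), fun h => ?_⟩
  rw [commutator_comm]
  refine (le_centMod.1 (zpowers_le.2 (mem_centMod.2 ⟨n, fun w hw => ?_⟩))).2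
  rw [← commutatorElement_inv]
  exact inv_mem (h w hw)

variable [Finite Γ]

theorem cm_eq (a : Abel W) (n : t ∈ 𝐍 W) : ⁅W, zpowers t⁆ = (cmH a n).range := by
  refine le_antisymm ((cm_le_iff (mem_norm_of_cj_le ?_)).2 fun w hw => ⟨⟨w, hw⟩, rfl⟩) ?_
  · intro z hz
    obtain ⟨_, ⟨v, rfl⟩, rfl⟩ := mem_cj_iff.1 hz
    refine ⟨⟨_, conj_mem_of_norm n v.2⟩, ?_⟩
    change ⁅t * v * t⁻¹, t⁆ = t * ⁅(v : Γ), t⁆ * t⁻¹
    simp only [commutatorElement_def]; group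
  · rintro _ ⟨v, rfl⟩
    exact cm_mem v.2

theorem mem_cm (a : Abel W) (n : t ∈ 𝐍 W) {w : Γ} : w ∈ ⁅W, zpowers t⁆ ↔ ∃ v ∈ W, ⁅v, t⁆ = w := by
  rw [cm_eq a n]
  exact ⟨fun ⟨v, e⟩ => ⟨v, v.2, e⟩, fun ⟨v, hv, e⟩ => ⟨⟨v, hv⟩, e⟩⟩

theorem card_cm (a : Abel W) (n : t ∈ 𝐍 W) : ♯⁅W, zpowers t⁆ = (𝐂₁ t).relIndex W := by
  rw [cm_eq a n, ← index_ker, relIndex]
  congr 1
  ext v
  rw [MonoidHom.mem_ker, mem_subgroupOf, mem_cent1]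
  exact commutatorElement_eq_one_iff_mul_comm

omit [Finite Γ] in
theorem odd_pi (o : Odd (orderOf x)) : PiGrp {2}ᶜ (zpowers x) :=
  piGrp_zpowers.2 ((piNat_compl_single Nat.prime_two).2 o.not_two_dvd_nat)

omit [Finite Γ] in
theorem pi_odd (o : PiElt {2}ᶜ x) : Odd (orderOf x) :=
  Nat.odd_iff.2 (Nat.two_dvd_ne_zero.1 ((piNat_compl_single Nat.prime_two).1 o))

omit [Finite Γ] in
theorem odd_cop (o : Odd (orderOf x)) (k : PiGrp {2} U) : (♯(zpowers x)).Coprime (♯U) :=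
  PiNat.coprime' (odd_pi o) k

theorem cm_fix (e : Abelem 2 U) (n : x ∈ 𝐍 U) (o : Odd (orderOf x)) {r : Γ}
    (hr : r ∈ ⁅U, zpowers x⁆) (c : r ∈ 𝐂₁ x) : r = 1 :=
  eq_one_of_mem_bot (e.abel.comm_inf_cent (zpowers_le.2 n) (odd_cop o e.pi))
    ⟨hr, by rwa [cent_zpowers]⟩

theorem cm_dec (e : Abelem 2 U) (n : x ∈ 𝐍 U) (o : Odd (orderOf x)) {u : Γ} (hu : u ∈ U) :
    ∃ r ∈ ⁅U, zpowers x⁆, ∃ c ∈ U, c ∈ 𝐂₁ x ∧ r * c = u := by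
  obtain ⟨r, hr, c, hc, h⟩ :=
    (e.abel.dprod_cent_comm (zpowers_le.2 n) (odd_cop o e.pi)).symm.sdprod.exists_mul hu
  exact ⟨r, hr, c, hc.1, cent_zpowers x ▸ hc.2, h⟩

omit [Finite Γ] in
theorem sq1 (e : Abelem 2 U) {u : Γ} (hu : u ∈ U) : u * u = 1 := by
  rw [← pow_two]; exact e.pow u hu

omit [Finite Γ] in
theorem inv1 (e : Abelem 2 U) {u : Γ} (hu : u ∈ U) : u⁻¹ = u :=
  inv_eq_of_mul_eq_one_right (sq1 e hu)

theorem two_out {R Y : Subgroup Γ} (h : 2 < ♯R) (n : ¬ R ≤ Y) (t : Γ) : ∃ s ∈ R, s ∉ Y ∧ s ≠ t := by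
  by_contra! k
  obtain ⟨s, hs, s1⟩ := SetLike.not_le_iff_exists.1 n
  have : (R : Set Γ) ⊆ {1, t} := fun y hy => by
    by_cases c : y ∈ Y
    · have := (k _ (mul_mem hs hy) fun m => s1 (by simpa using mul_mem m (inv_mem c))).trans
        (k s hs s1).symm
      exact Or.inl (by simpa using this)
    · exact Or.inr (k y hy c)
  have h2 := (Set.ncard_le_ncard this).trans (Set.ncard_insert_le _ _)
  rw [Set.ncard_singleton] at h2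
  exact absurd h (not_lt.2 h2)

/-- `x` has odd order and is transitive on the nonidentity elements of `[U,x]` -/
structure Tr (U : Subgroup Γ) (x : Γ) : Prop where
  n : x ∈ 𝐍 U
  odd : Odd (orderOf x)
  big : 2 < ♯⁅U, zpowers x⁆
  tr : ∀ a ∈ ⁅U, zpowers x⁆, ∀ b ∈ ⁅U, zpowers x⁆, a ≠ 1 → b ≠ 1 →
    ∃ k : ℕ, x ^ k * a * (x ^ k)⁻¹ = b

namespace Tr

omit [Finite Γ] in
protected theorem cj (h : Tr U x) (n : g ∈ 𝐍 U) : Tr U (g * x * g⁻¹) := by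
  refine ⟨mul_mem (mul_mem n h.n) (inv_mem n), by rw [orderOf_conj']; exact h.odd, ?_, ?_⟩
  · rw [← cj_cm n, card_cj]; exact h.big
  · intro a ha b hb a1 b1
    rw [← cj_cm n, mem_cj] at ha hb
    obtain ⟨k, hk⟩ := h.tr _ ha _ hb (fun e => a1 (by simpa [mul_assoc] using congrArg (g * · * g⁻¹) e))
      fun e => b1 (by simpa [mul_assoc] using congrArg (g * · * g⁻¹) e)
    refine ⟨k, ?_⟩
    rw [conj_pow]
    calc _ = g * (x ^ k * (g⁻¹ * a * g) * (x ^ k)⁻¹) * g⁻¹ := by group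
      _ = b := by rw [hk]; group

theorem ne (h : Tr U x) : ⁅U, zpowers x⁆ ≠ ⊥ := one_lt_card.1 (by have := h.big; omega)

omit [Finite Γ] in
theorem irr (h : Tr U x) (hV : V ≤ U) (n : x ∈ 𝐍 V) : V ≤ 𝐂₁ x ∨ ⁅U, zpowers x⁆ ≤ V := by
  by_cases c : V ≤ 𝐂₁ x
  · exact Or.inl c
  obtain ⟨v, hv, v1⟩ := SetLike.not_le_iff_exists.1 c
  refine Or.inr fun b hb => ?_
  by_cases b1 : b = 1
  · exact b1 ▸ one_mem V
  obtain ⟨k, rfl⟩ := h.tr _ (cm_mem (hV hv)) b hb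
    (fun e => v1 (mem_cent1.2 (commutatorElement_eq_one_iff_mul_comm.1 e))) b1
  exact conj_mem_of_norm (pow_mem n k) (cm_le n (cm_mem hv))

variable (e : Abelem 2 U)
include e

theorem conj (h : Tr U x) {u s : Γ} (hu : u ∈ U) (hs : s ∈ ⁅U, zpowers x⁆) (u1 : u ∉ 𝐂₁ x)
    (v1 : u * s ∉ 𝐂₁ x) : ∃ k : ℕ, x ^ k * u * (x ^ k)⁻¹ = u * s := by
  obtain ⟨r, hr, c, hc, cx, rfl⟩ := cm_dec e h.n h.odd hu
  have m : r * c * s = r * s * c := by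
    rw [mul_assoc, e.abel.mul_comm hc (cm_le h.n hs), mul_assoc]
  obtain ⟨k, hk⟩ := h.tr r hr _ (mul_mem hr hs) (fun k => u1 (by simpa [k] using cx))
    fun k => v1 (by rw [m, k, one_mul]; exact cx)
  refine ⟨k, ?_⟩
  have : x ^ k * c * (x ^ k)⁻¹ = c := by
    rw [mul_inv_eq_iff_eq_mul]
    exact (Commute.pow_right (mem_cent1.1 cx) k).eq.symm
  calc _ = x ^ k * r * (x ^ k)⁻¹ * (x ^ k * c * (x ^ k)⁻¹) := by group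
    _ = _ := by rw [hk, this, m]

theorem orth (h : Tr U x) (k : Tr U y) (o : PiGrp {2}ᶜ D) (f : D ⊓ 𝐂 U = ⊥) (hx : x ∈ D)
    (hy : y ∈ D) (c : ⁅U, zpowers x⁆ ≤ 𝐂₁ y) : x * y = y * x ∧ ⁅U, zpowers y⁆ ≤ 𝐂₁ x := by
  have cy : y ∈ 𝐂 ⁅U, zpowers x⁆ := le_cent1_iff.1 c
  have hD : ⁅x, y⁆ ∈ D := mul_mem (mul_mem (mul_mem hx hy) (inv_mem hx)) (inv_mem hy)
  have h1 : ⁅x, y⁆ ∈ 𝐂 ⁅U, zpowers x⁆ :=
    mul_mem (conj_mem_of_norm (norm_le_norm_cent _ (cm_norm U x)) cy) (inv_mem cy)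
  have hM : x ∈ centMod U ⁅U, zpowers x⁆ :=
    le_centMod.2 ⟨norm_comm_right _ _, (commutator_comm _ _).le⟩ (mem_zpowers x)
  have h2 : ⁅x, y⁆ ∈ centMod U ⁅U, zpowers x⁆ := by
    have := mul_mem hM (conj_mem_of_norm (norm_centMod (zpowers_le.2 k.n)
      (zpowers_le.2 (cent_le_norm _ cy)) (mem_zpowers y)) (inv_mem hM))
    rwa [← mul_assoc, ← mul_assoc] at this
  have h3 : zpowers ⁅x, y⁆ ≤ 𝐂 U :=
    cent_of_stable (PiNat.coprime' (o.le (zpowers_le.2 hD)) (e.pi.le (cm_le h.n)))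
      ((commutator_comm _ _).le.trans (le_centMod.1 (zpowers_le.2 h2)).2) (zpowers_le.2 h1)
  have h4 : x * y = y * x :=
    commutatorElement_eq_one_iff_mul_comm.1 (eq_one_of_mem_bot f ⟨hD, h3 (mem_zpowers _)⟩)
  refine ⟨h4, (h.irr (cm_le k.n) ?_).resolve_right fun m => h.ne (eq_bot_of_forall fun r hr =>
    cm_fix e k.n k.odd (m hr) (c hr))⟩
  rw [← cj_eq_self, cj_cm h.n, h4, mul_inv_cancel_right]

theorem link0 (h : Tr U x) (k : Tr U y) (a : ¬ ⁅U, zpowers x⁆ ≤ 𝐂₁ y) (b : ¬ ⁅U, zpowers y⁆ ≤ 𝐂₁ x)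
    (c : ⁅U, zpowers x⁆ ⊓ 𝐂₁ y ≠ ⊥ ∨ ⁅U, zpowers y⁆ ⊓ 𝐂₁ x = ⊥) :
    ∃ r ∈ ⁅U, zpowers x⁆, ∃ s ∈ ⁅U, zpowers y⁆, r ∉ 𝐂₁ y ∧ s ∉ 𝐂₁ x ∧ r * s ∉ 𝐂₁ x ∧
      r * s ∉ 𝐂₁ y := by
  obtain ⟨r, hr, r1⟩ := SetLike.not_le_iff_exists.1 a
  obtain ⟨t, ht, c', hc, cy, rfl⟩ := cm_dec e k.n k.odd (cm_le h.n hr)
  have key : ∀ s ∈ ⁅U, zpowers y⁆, s ≠ t → t * c' * s ∉ 𝐂₁ y := fun s hs st m => by
    rw [mul_assoc, e.abel.mul_comm hc (cm_le k.n hs), ← mul_assoc] at m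
    have := cm_fix e k.n k.odd (mul_mem ht hs) (by simpa using mul_mem m (inv_mem cy))
    exact st (by rw [eq_inv_of_mul_eq_one_right this, inv1 e (cm_le k.n ht)])
  obtain ⟨s, hs, s1, st⟩ := two_out k.big b t
  by_cases m : t * c' * s ∈ 𝐂₁ x
  swap
  · exact ⟨_, hr, s, hs, r1, s1, m, key s hs st⟩
  rcases c with c | c
  · obtain ⟨z, hz, z1⟩ := exists_mem_ne_one c
    obtain ⟨hz, zy⟩ := mem_inf.1 hz
    refine ⟨z * (t * c'), mul_mem hz hr, s, hs, fun q => r1 (by simpa using mul_mem (inv_mem zy) q),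
      s1, fun q => z1 (cm_fix e h.n h.odd hz ?_), fun q => key s hs st ?_⟩
    · simpa [mul_assoc] using mul_mem q (inv_mem m)
    · simpa [mul_assoc] using mul_mem (inv_mem zy) q
  · have t1 : t ≠ 1 := fun q => r1 (by simpa [q] using cy)
    have s0 : s ≠ 1 := fun q => s1 (q ▸ one_mem _)
    refine ⟨_, hr, s * t, mul_mem hs ht, r1, fun q => st ?_, fun q => t1 ?_,
      key _ (mul_mem hs ht) (by simpa using s0)⟩
    · rw [eq_inv_of_mul_eq_one_left (eq_one_of_mem_bot c ⟨mul_mem hs ht, q⟩), inv1 e (cm_le k.n ht)]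
    · exact eq_one_of_mem_bot c ⟨ht, by simpa [mul_assoc] using mul_mem (inv_mem m) q⟩

theorem link (h : Tr U x) (k : Tr U y) (a : ¬ ⁅U, zpowers x⁆ ≤ 𝐂₁ y) (b : ¬ ⁅U, zpowers y⁆ ≤ 𝐂₁ x)
    (hx : x ∈ D) (hy : y ∈ D) :
    ∃ r ∈ ⁅U, zpowers x⁆, r ≠ 1 ∧ ∃ d ∈ D, d * r * d⁻¹ ∈ ⁅U, zpowers y⁆ := by
  obtain ⟨r, hr, s, hs, h1, h2, h3, h4⟩ : ∃ r ∈ ⁅U, zpowers x⁆, ∃ s ∈ ⁅U, zpowers y⁆,
      r ∉ 𝐂₁ y ∧ s ∉ 𝐂₁ x ∧ r * s ∉ 𝐂₁ x ∧ r * s ∉ 𝐂₁ y := by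
    by_cases c : ⁅U, zpowers y⁆ ⊓ 𝐂₁ x = ⊥
    · exact link0 e h k a b (Or.inr c)
    obtain ⟨s, hs, r, hr, h1, h2, h3, h4⟩ := link0 e k h b a (Or.inl c)
    rw [e.abel.mul_comm (cm_le k.n hs) (cm_le h.n hr)] at h3 h4
    exact ⟨r, hr, s, hs, h2, h1, h4, h3⟩
  obtain ⟨i, hi⟩ := conj e k (cm_le h.n hr) hs h1 h4
  rw [e.abel.mul_comm (cm_le h.n hr) (cm_le k.n hs)] at h3 hi
  obtain ⟨j, hj⟩ := conj e h (cm_le k.n hs) hr h2 h3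
  refine ⟨r, hr, fun q => h1 (q ▸ one_mem _), (x ^ j)⁻¹ * y ^ i,
    mul_mem (inv_mem (pow_mem hx j)) (pow_mem hy i), ?_⟩
  have : (x ^ j)⁻¹ * y ^ i * r * ((x ^ j)⁻¹ * y ^ i)⁻¹ = s := by
    calc _ = (x ^ j)⁻¹ * (y ^ i * r * (y ^ i)⁻¹) * x ^ j := by group
      _ = s := by rw [hi, ← hj]; group
  rwa [this]

end Tr

end CF.Fpf
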