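import Cfsg.Agent.Fpf.S1

/-! Fixed-point-free operator groups: no odd element is transitive on its commutator space -/

set_option autoImplicit false

namespace CF.Fpf
open Subgroup CF.BG
open CF.Loc (Hol bar hat piV)
open CF.FF (pb ib)
open scoped commutatorElement

universe u
variable {Γ : Type u} [Group Γ] [Finite Γ] {A B D K R U V W : Subgroup Γ} {x y t g : Γ}

omit [Finite Γ] in
theorem cj_closure_le {s : Set Γ} (h : ∀ z ∈ s, g * z * g⁻¹ ∈ V) : cj g (closure s) ≤ V := by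
  rw [cj_le_iff, closure_le]
  exact fun z hz => mem_cj_inv.2 (h z hz)

theorem blk (hD : Fp D A) (s : Sol D) (hU : Fp U A) (e : Abelem 2 U) (o : PiGrp {2}ᶜ D)
    (n : D ≤ 𝐍 U) (f : D ⊓ 𝐂 U = ⊥) (hB : B ≤ D) {r : Γ} (hr : r ∈ ⁅U, B⁆)
    (h : ∀ a ∈ A, (a ∈ 𝐍 B ∧ ∃ d ∈ B, a * r * a⁻¹ = d * r * d⁻¹) ∨ cj a B ≤ 𝐂 B ⊓ 𝐂 ⁅U, B⁆) :
    r = 1 := by
  have dp := e.abel.dprod_cent_comm (hB.trans n) (PiNat.coprime' (o.le hB) e.pi)
  have z : ∀ v ∈ ⁅U, B⁆, v ∈ 𝐂 B → v = 1 := fun v hv c =>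
    eq_one_of_mem_bot dp.inf ⟨⟨dp.right_le hv, c⟩, hv⟩
  have hB' : Fp B (A ⊓ 𝐍 B) := by
    refine ⟨inf_le_right, eq_bot_of_forall fun d hd => ?_,
      fun p hp hd => (hD.npc p hp (hd.trans (card_dvd hB))).mono inf_le_left⟩
    obtain ⟨hd, cd⟩ := mem_inf.1 hd
    have key : ∀ a ∈ A, a * d * a⁻¹ = d ∨ a * d * a⁻¹ ∈ 𝐂 B ⊓ 𝐂 ⁅U, B⁆ := fun a ha =>
      (h a ha).imp (fun k => by rw [mem_cent.1 cd a ⟨ha, k.1⟩, mul_inv_cancel_right])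
        fun k => k (conj_mem_cj.2 hd)
    have h1 : d ∈ 𝐂 ⁅U, B⁆ := by
      refine hD.pf0 (s := {y | ∃ a ∈ A, a * d * a⁻¹ = y}) ?_ ?_ ?_ ⟨1, one_mem A, by simp⟩ ?_
      · rintro _ ⟨a, ha, rfl⟩ _ ⟨b, hb, rfl⟩
        have : d * (a⁻¹ * b * d * (a⁻¹ * b)⁻¹) = a⁻¹ * b * d * (a⁻¹ * b)⁻¹ * d := by
          rcases key _ (mul_mem (inv_mem ha) hb) with k | k
          · rw [k]
          · exact mem_cent.1 k.1 d hd
        calc _ = a * (d * (a⁻¹ * b * d * (a⁻¹ * b)⁻¹)) * a⁻¹ := by group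
          _ = _ := by rw [this]; group
      · rintro _ ⟨a, ha, rfl⟩
        exact conj_mem_of_norm (hD.norm ha) (hB hd)
      · rintro b hb _ ⟨a, ha, rfl⟩
        exact ⟨b * a, mul_mem hb ha, by group⟩
      · rintro _ ⟨a, ha, rfl⟩ k
        exact ((key a ha).resolve_left k).2
    refine eq_one_of_mem_bot f ⟨hB hd, ?_⟩
    rw [← dp.sup, cent_sup]
    exact ⟨cent_symm (inf_le_right : U ⊓ 𝐂 B ≤ 𝐂 B) hd, h1⟩
  obtain ⟨c, hc, h2⟩ := hB'.conj_le (D := 𝐂₁ r) le_rfl inf_le_right (s.mono hB) fun a ha => by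
    rcases h a ha.1 with ⟨-, d, hd, k⟩ | k
    · refine ⟨d⁻¹, inv_mem hd, mem_cent1.2 ?_⟩
      calc d⁻¹ * a * r = d⁻¹ * (a * r * a⁻¹) * a := by group
        _ = r * (d⁻¹ * a) := by rw [k]; group
    · rw [cj_of_norm ha.2] at k
      rw [z r hr (cent_symm (k.trans inf_le_right) hr)]
      exact ⟨1, one_mem B, by simp⟩
  have hv : c⁻¹ * r * c ∈ ⁅U, B⁆ := conj_mem_of_norm' (norm_comm_right U B hc) hr
  have h3 : c⁻¹ * r * c = 1 := by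
    refine z _ hv (hU.pf0 (s := {y | ∃ a ∈ A, a * (c⁻¹ * r * c) * a⁻¹ = y}) ?_ ?_ ?_
      ⟨1, one_mem A, by simp⟩ ?_)
    · rintro _ ⟨a, ha, rfl⟩ _ ⟨b, hb, rfl⟩
      exact e.abel.mul_comm (conj_mem_of_norm (hU.norm ha) (dp.right_le hv))
        (conj_mem_of_norm (hU.norm hb) (dp.right_le hv))
    · rintro _ ⟨a, ha, rfl⟩
      exact conj_mem_of_norm (hU.norm ha) (dp.right_le hv)
    · rintro b hb _ ⟨a, ha, rfl⟩
      exact ⟨b * a, mul_mem hb ha, by group⟩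
    · rintro _ ⟨a, ha, rfl⟩ k
      rcases h a⁻¹ (inv_mem ha) with ⟨m, -⟩ | m
      · have := mem_cent1.1 (h2 (conj_mem_cj.2 (mem_inf.2 ⟨ha, inv_mem_iff.1 m⟩)))
        refine absurd ?_ k
        calc _ = c⁻¹ * (c * a * c⁻¹ * r) * c * a⁻¹ := by group
          _ = _ := by rw [this]; group
      · refine mem_cent.2 fun b hb => ?_
        have := mem_cent.1 (m (conj_mem_cj.2 hb)).2 _ hv
        calc _ = a * (a⁻¹ * b * a⁻¹⁻¹ * (c⁻¹ * r * c)) * a⁻¹ := by group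
          _ = _ := by rw [← this]; group
  simpa [mul_assoc, inv_mul_eq_one] using congrArg (c * · * c⁻¹) h3

theorem lemS0 (hD : Fp D A) (s : Sol D) (hU : Fp U A) (e : Abelem 2 U) (o : PiGrp {2}ᶜ D)
    (n : D ≤ 𝐍 U) (f : D ⊓ 𝐂 U = ⊥) (hx : x ∈ D) : ¬ Tr U x := fun h => by
  obtain ⟨r, hr, r1⟩ := exists_mem_ne_one h.ne
  set X : Set Γ := {z | z ∈ D ∧ Tr U z} with hX
  set O : Set Γ := {v | ∃ d ∈ closure X, d * r * d⁻¹ = v} with hO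
  set c : Set Γ := {z | z ∈ X ∧ ∃ v ∈ ⁅U, zpowers z⁆, v ∈ O} with hc
  have o1 : ∀ v ∈ O, v ≠ 1 := by
    rintro _ ⟨d, -, rfl⟩ k
    exact r1 (by simpa using k)
  have o2 : ∀ d ∈ closure X, ∀ v ∈ O, d * v * d⁻¹ ∈ O := by
    rintro d hd _ ⟨b, hb, rfl⟩
    exact ⟨d * b, mul_mem hd hb, by group⟩
  have h1 : ∀ z ∈ c, ∀ v ∈ ⁅U, zpowers z⁆, v ≠ 1 → v ∈ O := by
    rintro z ⟨hz, w, hw, wO⟩ v hv v1
    obtain ⟨k, rfl⟩ := hz.2.tr w hw v hv (o1 w wO) v1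
    exact o2 _ (pow_mem (subset_closure hz) k) w wO
  have h2 : ∀ z ∈ c, ∀ w ∈ X, w ∉ c → z * w = w * z ∧ ⁅U, zpowers z⁆ ≤ 𝐂₁ w := by
    intro z hz w hw wc
    by_cases a : ⁅U, zpowers z⁆ ≤ 𝐂₁ w
    · exact ⟨(hz.1.2.orth e hw.2 o f hz.1.1 hw.1 a).1, a⟩
    by_cases b : ⁅U, zpowers w⁆ ≤ 𝐂₁ z
    · exact absurd (hw.2.orth e hz.1.2 o f hw.1 hz.1.1 b).2 a
    obtain ⟨v, hv, v1, d, hd, k⟩ := hz.1.2.link e hw.2 a b (subset_closure hz.1) (subset_closure hw)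
    exact absurd ⟨hw, _, k, o2 d hd v (h1 z hz v hv v1)⟩ wc
  have h3 : ∀ w ∈ X, w ∉ c → w ∈ 𝐂 (closure c) ⊓ 𝐂 ⁅U, closure c⁆ := by
    intro w hw wc
    refine ⟨le_cent1_iff.1 ((closure_le _).2 fun z hz => mem_cent1.2 (h2 z hz w hw wc).1),
      le_cent1_iff.1 ?_⟩
    have : closure c ≤ centMod U (U ⊓ 𝐂₁ w) := (closure_le _).2 fun z hz => by
      have k : ⁅U, zpowers z⁆ ≤ U ⊓ 𝐂₁ w := le_inf (cm_le hz.1.2.n) (h2 z hz w hw wc).2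
      exact le_centMod.2 ⟨norm_of_comm_le ((commutator_mono inf_le_left le_rfl).trans k),
        (commutator_comm _ _).le.trans k⟩ (mem_zpowers z)
    exact (commutator_comm _ _).le.trans ((le_centMod.1 this).2.trans inf_le_right)
  have xc : x ∈ c := ⟨⟨hx, h⟩, r, hr, 1, one_mem _, by simp⟩
  have rB : r ∈ ⁅U, closure c⁆ := commutator_mono le_rfl (zpowers_le.2 (subset_closure xc)) hr
  have h4 : ∀ v ∈ O, ∃ d ∈ closure c, v = d * r * d⁻¹ := by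
    rintro _ ⟨d, hd, rfl⟩
    have : closure X ≤ closure c ⊔ (𝐂 (closure c) ⊓ 𝐂 ⁅U, closure c⁆) := (closure_le _).2 fun w hw => by
      by_cases k : w ∈ c
      · exact mem_sup_left (subset_closure k)
      · exact mem_sup_right (h3 w hw k)
    obtain ⟨b, hb, w, hw, rfl⟩ := (mem_sup_norm' (norm_of_cent inf_le_left)).1 (this hd)
    refine ⟨b, hb, ?_⟩
    calc _ = b * (w * r) * w⁻¹ * b⁻¹ := by group
      _ = _ := by rw [← mem_cent.1 hw.2 r rB]; group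
  have h5 : ∀ a ∈ A, ∀ z ∈ X, a * z * a⁻¹ ∈ X := fun a ha z hz =>
    ⟨conj_mem_of_norm (hD.norm ha) hz.1, hz.2.cj (hU.norm ha)⟩
  have h6 : ∀ a ∈ A, ∀ d ∈ closure X, a * d * a⁻¹ ∈ closure X := fun a ha d hd =>
    cj_closure_le (fun z hz => subset_closure (h5 a ha z hz)) (conj_mem_cj.2 hd)
  refine r1 (blk hD s hU e o n f ((closure_le _).2 fun z hz => hz.1.1) rB fun a ha => ?_)
  have h7 : ∀ z, ∀ v ∈ ⁅U, zpowers z⁆, a * v * a⁻¹ ∈ ⁅U, zpowers (a * z * a⁻¹)⁆ := fun z v hv => by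
    rw [← cj_cm (hU.norm ha)]; exact conj_mem_cj.2 hv
  by_cases k : a * r * a⁻¹ ∈ O
  · refine Or.inl ⟨mem_norm_of_cj_le (cj_closure_le ?_), h4 _ k⟩
    rintro z ⟨hz, _, hv, d, hd, rfl⟩
    refine subset_closure ⟨h5 a ha z hz, _, h7 z _ hv, ?_⟩
    convert o2 _ (h6 a ha d hd) _ k using 1
    group
  · refine Or.inr (cj_closure_le ?_)
    rintro z ⟨hz, _, hv, d, hd, rfl⟩
    refine h3 _ (h5 a ha z hz) fun m => k ?_
    have := h1 _ m _ (h7 z _ hv) fun q => r1 (by simpa using q)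
    convert o2 _ (h6 a ha _ (inv_mem hd)) _ this using 1
    group

/-! ### the faithful model -/

theorem sol_sub {L : Subgroup Γ} (s : Sol K) (n : K ≤ L) : Sol (K.subgroupOf L) := by
  rw [← sol_map_iff L.subtype_injective, map_subgroupOf n]; exact s

theorem fp_bar (hK : Fp K A) (s : Sol K) (n : K ≤ 𝐍 U) (m : A ≤ 𝐍 U) : Fp (bar U K) (bar U A) :=
  (hK.subgroupOf n m).map (piV U) ((sol_sub s n).mono inf_le_left)

theorem sol_bar (s : Sol K) (n : K ≤ 𝐍 U) : Sol (bar U K) := (sol_sub s n).map _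

theorem fp_hat (hU : Fp U A) : Fp (hat U U) (bar U A) := by
  refine ⟨Loc.bar_le_normalizer_hat A, ?_, fun p hp hd => npc_map ?_ _⟩
  · rw [Loc.hat_inf_centralizer hU.norm, hU.fpf]
    simp [hat]
  · rw [Loc.card_hat le_rfl] at hd
    rw [← npc_map_iff (𝐍 U).subtype_injective, map_subgroupOf hU.norm]
    exact hU.npc p hp hd

theorem ab_hat (e : Abelem 2 U) : Abelem 2 (hat U U) := .of_isEA Nat.prime_two (Loc.isElemAb_hat e.isEA)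

omit [Finite Γ] in
theorem odd_pb (n : x ∈ 𝐍 U) (o : Odd (orderOf x)) : Odd (orderOf (pb U x)) := by
  rw [FF.pb_eq n]
  exact o.of_dvd_nat ((orderOf_map_dvd _ _).trans (orderOf_mk x n).dvd)

omit [Finite Γ] in
theorem cm_hat (n : x ∈ 𝐍 U) : ⁅hat U U, zpowers (pb U x)⁆ = hat U ⁅U, zpowers x⁆ := by
  rw [← FF.bar_zpowers' n, Loc.commutator_hat_bar le_rfl (zpowers_le.2 n)]

omit [Finite Γ] in
theorem Tr.hat (h : Tr U x) : Tr (hat U U) (pb U x) := by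
  refine ⟨Loc.bar_le_normalizer_hat _ (FF.pb_mem le_rfl h.n), odd_pb h.n h.odd, ?_, ?_⟩
  · rw [cm_hat h.n, Loc.card_hat (cm_le h.n)]; exact h.big
  · intro a ha b hb a1 b1
    rw [cm_hat h.n, FF.mem_hat_iff (cm_le h.n)] at ha hb
    obtain ⟨a, ha, rfl⟩ := ha
    obtain ⟨b, hb, rfl⟩ := hb
    obtain ⟨k, rfl⟩ := h.tr a ha b hb (fun q => a1 ((FF.ib_eq_one (cm_le h.n ha)).2 q))
      fun q => b1 ((FF.ib_eq_one (cm_le h.n hb)).2 q)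
    refine ⟨k, ?_⟩
    rw [FF.ib_conj (pow_mem h.n k) (cm_le h.n ha), FF.pb_eq h.n, FF.pb_eq (pow_mem h.n k), ← map_pow]
    rfl

theorem not_tr (hK : Fp K A) (s : Sol K) (hU : Fp U A) (e : Abelem 2 U) (n : K ≤ 𝐍 U)
    (hx : x ∈ K) : ¬ Tr U x := fun h => by
  have hK' := fp_bar hK s n hU.norm
  obtain ⟨D, hD, nD⟩ := hK'.exists_hall (sol_bar s n) {2}ᶜ
  obtain ⟨g, hg, k⟩ := hD.conj_mem (sol_bar s n) (FF.pb_mem n hx) (piGrp_zpowers.1 (odd_pi h.hat.odd))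
  exact lemS0 (hK'.mono hD.le nD) ((sol_bar s n).mono hD.le) (fp_hat hU) (ab_hat e) hD.pi
    (hD.le.trans (Loc.bar_le_normalizer_hat K))
    (eq_bot_mono (Loc.bar_inf_centralizer_hat n) (inf_le_inf_right _ hD.le)) k
    (h.hat.cj (Loc.bar_le_normalizer_hat K hg))

theorem lemS (hK : Fp K A) (s : Sol K) (hU : Fp U A) (e : Abelem 2 U) (n : K ≤ 𝐍 U) {x : Γ}
    (hx : x ∈ K) (o : Odd (orderOf x)) (h2 : 2 < ♯⁅U, zpowers x⁆) :
    ¬ ∀ a ∈ ⁅U, zpowers x⁆, ∀ b ∈ ⁅U, zpowers x⁆, a ≠ 1 → b ≠ 1 →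
      ∃ k : ℕ, x ^ k * a * (x ^ k)⁻¹ = b := fun h => not_tr hK s hU e n hx ⟨n hx, o, h2, h⟩

/-! ### index at most four -/

theorem cent1_sq (o : Odd (orderOf y)) : 𝐂₁ (y * y) = 𝐂₁ y := by
  rw [← cent_zpowers, ← cent_zpowers y, ← pow_two]
  congr 2
  refine le_antisymm (zpowers_le.2 (pow_mem (mem_zpowers y) 2)) (zpowers_le.2 ?_)
  exact mem_zpowers_pow_iff.2 (Nat.coprime_two_left.2 o)

/-- the orbit of an odd fixed-point-free element on a group of order at most four -/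
theorem four_orb (n : y ∈ 𝐍 V) (o : Odd (orderOf y)) (f : ∀ v ∈ V, v ∈ 𝐂₁ y → v = 1) (h : ♯V ≤ 4)
    {a : Γ} (ha : a ∈ V) (a1 : a ≠ 1) :
    ♯V = 4 ∧ ∀ b ∈ V, b = 1 ∨ b = a ∨ b = y * a * y⁻¹ ∨ b = y * y * a * (y * y)⁻¹ := by
  have k1 : y * a * y⁻¹ ≠ a := fun q => a1 (f a ha (mem_cent1.2 (mul_inv_eq_iff_eq_mul.1 q).symm))
  have k2 : y * y * a * (y * y)⁻¹ ≠ a := fun q =>
    a1 (f a ha (cent1_sq o ▸ mem_cent1.2 (mul_inv_eq_iff_eq_mul.1 q).symm))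
  have k3 : y * y * a * (y * y)⁻¹ ≠ y * a * y⁻¹ := fun q =>
    k1 (by simpa [mul_assoc] using congrArg (y⁻¹ * · * y) q)
  have k4 : y * a * y⁻¹ ≠ 1 := by simpa using a1
  have k5 : y * y * a * (y * y)⁻¹ ≠ 1 := fun q => a1 (by simpa using (conj_eq_one_iff).1 q)
  have hs : ({1, a, y * a * y⁻¹, y * y * a * (y * y)⁻¹} : Set Γ) ⊆ V := by
    rintro _ (rfl | rfl | rfl | rfl)
    exacts [one_mem V, ha, conj_mem_of_norm n ha, conj_mem_of_norm (mul_mem n n) ha]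
  have hc : ({1, a, y * a * y⁻¹, y * y * a * (y * y)⁻¹} : Set Γ).ncard = 4 := by
    rw [Set.ncard_insert_of_notMem (by simp [a1.symm, k4.symm, k5.symm, -mul_inv_rev]),
      Set.ncard_insert_of_notMem (by simp [k1.symm, k2.symm, -mul_inv_rev]), Set.ncard_pair k3.symm]
  have h4 : (V : Set Γ).ncard ≤ 4 := h
  have := Set.eq_of_subset_of_ncard_le hs (hc ▸ h4)
  exact ⟨le_antisymm h (hc ▸ Set.ncard_le_ncard hs), fun b hb => by
    have : b ∈ ({1, a, y * a * y⁻¹, y * y * a * (y * y)⁻¹} : Set Γ) := this ▸ hb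
    simpa using this⟩

theorem s4e (hK : Fp K A) (s : Sol K) (hU : Fp U A) (e : Abelem 2 U) (n : K ≤ 𝐍 U) (hy : y ∈ K)
    (o : Odd (orderOf y)) (h : (𝐂₁ y).relIndex U ≤ 4) : y ∈ 𝐂 U := by
  by_contra c
  rw [← card_cm e.abel (n hy)] at h
  have k := fun a => four_orb (a := a) (cm_norm U y) o (fun v => cm_fix e (n hy) o) h
  obtain ⟨a, ha, a1⟩ := exists_mem_ne_one (H := ⁅U, zpowers y⁆) fun q =>
    c (comm_eq_bot'.1 q (mem_zpowers y))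
  refine lemS hK s hU e n hy o (by rw [(k a ha a1).1]; omega) fun a ha b hb a1 b1 => ?_
  rcases (k a ha a1).2 b hb with q | q | q | q
  · exact absurd q b1
  · exact ⟨0, by simp [q]⟩
  · exact ⟨1, by simp [q]⟩
  · exact ⟨2, by rw [q, pow_two]⟩

theorem idx_qt {N : Subgroup Γ} (r : R ≤ 𝐍 N) (hy : y ∈ 𝐍 N) :
    (𝐂₁ (qe N y)).relIndex (qt N R) ≤ (N ⊔ (R ⊓ 𝐂₁ y)).relIndex R := by
  rw [← relIndex_qt' (inf_le_left.trans r) r]
  refine Nat.le_of_dvd (relIndex_pos _ _) (relIndex_dvd_left _ ?_)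
  rw [← cent_zpowers, ← cent_zpowers, ← qt_zpowers hy]
  exact qt_cent N inf_le_right

omit [Finite Γ] in
theorem odd_qe {N : Subgroup Γ} (hy : y ∈ 𝐍 N) (o : Odd (orderOf y)) : Odd (orderOf (qe N y)) :=
  o.of_dvd_nat (orderOf_qe_dvd hy)

omit [Finite Γ] in
theorem cm_le_of_qe {N : Subgroup Γ} (r : R ≤ 𝐍 N) (hy : y ∈ 𝐍 N) (h : qe N y ∈ 𝐂 (qt N R)) :
    ⁅R, zpowers y⁆ ≤ N := by
  rw [commutator_comm, ← qt_cent_iff (zpowers_le.2 hy) r, qt_zpowers hy]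
  exact zpowers_le.2 h

theorem s4 (hK : Fp K A) (s : Sol K) (hR : Fp R A) (r : PiGrp {2} R) (n : K ≤ 𝐍 R) {y : Γ}
    (hy : y ∈ K) (o : Odd (orderOf y)) (h : (𝐂₁ y).relIndex R ≤ 4) : y ∈ 𝐂 R := by
  have k := le_norm_Phi n
  have a := le_norm_Phi hR.norm
  have m := (Phi_normal R).norm
  have := s4e (hK.qt k a (s.mono inf_le_left)) (s.qt _) (hR.qt m a (r.sol.mono inf_le_left))
    r.abelem_qt_Phi (qt_norm _ n) (qe_mem_qt hy (k hy)) (odd_qe (k hy) o)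
    ((idx_qt m (k hy)).trans (le_trans (Nat.le_of_dvd (relIndex_pos _ _)
      ((relIndex_dvd_left R le_sup_right).trans (inf_relIndex_left R _).dvd)) h))
  exact cent_of_comm_le_Phi (zpowers_le.2 (n hy)) (odd_cop o r) (cm_le_of_qe m (k hy) this)
    (mem_zpowers y)

theorem s4q (hK : Fp K A) (s : Sol K) (hR : Fp R A) (r : PiGrp {2} R) (n : K ≤ 𝐍 R)
    {R2 : Subgroup Γ} (k : K ≤ 𝐍 R2) (a : A ≤ 𝐍 R2) (m : R ≤ 𝐍 R2) {y : Γ}
    (hy : y ∈ K) (o : Odd (orderOf y)) (h : (R2 ⊔ (R ⊓ 𝐂₁ y)).relIndex R ≤ 4) :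
    ⁅R, zpowers y⁆ ≤ R2 :=
  cm_le_of_qe m (k hy) (s4 (hK.qt k a (s.mono inf_le_left)) (s.qt _)
    (hR.qt m a (r.sol.mono inf_le_left)) (r.qt _) (qt_norm _ n) (qe_mem_qt hy (k hy))
    (odd_qe (k hy) o) ((idx_qt m (k hy)).trans h))

end CF.Fpf
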